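import Mathlib
import Cfsg.Agent.Lib.Helper2.BG.PartnerBasic
import Cfsg.Agent.Lib.Helper76.BG.PolyTilde
import Cfsg.Agent.Lib.Helper76.BG.PolyCount
import Cfsg.Agent.Lib.Helper27.BG.SigmaBasic

/-!
# Bender–Glauberman Theorem 14.7: the assembly of the packages (existence of `M*`)

`partner_exists_of` derives `PartnerExists` from the packages COUNT, KSTAR, T2, PAIR, TI, DT
(the disjointness of the tilde sets is helper76's `tilde_disjoint`).
-/

set_option autoImplicit false
set_option linter.unusedSectionVars false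
set_option linter.unusedVariables false

namespace Cfsg.Agent.Lib.Helper2.BG47

open Cfsg

universe u

/-- Package T2, from helper76's `card_prime_of_not_P1`. -/
theorem lemT2_closed : LemT2.{u} := by
  intro G _ _ hG h1429 h1430 L hL K hK hK1 hP1
  exact (Cfsg.Agent.Lib.Helper76.BG.card_prime_of_not_P1 hG h1429 h1430 L hL K hK hK1 hP1).1

variable {G : Type u} [Group G]

theorem eq_one_of_mem_of_coprime {A B : Subgroup G} [Finite G]
    (h : (Nat.card A).Coprime (Nat.card B)) {x : G} (hA : x ∈ A) (hB : x ∈ B) : x = 1 := by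
  have h1 : orderOf x ∣ Nat.card A := Subgroup.orderOf_dvd_natCard _ hA
  have h2 : orderOf x ∣ Nat.card B := Subgroup.orderOf_dvd_natCard _ hB
  have h3 : orderOf x ∣ 1 := by
    have := Nat.dvd_gcd h1 h2
    rwa [Nat.Coprime.gcd_eq_one h] at this
  exact orderOf_eq_one_iff.mp (Nat.dvd_one.mp h3)

variable [Finite G]

theorem eq_bot_of_le_of_coprime {A B X : Subgroup G}
    (h : (Nat.card A).Coprime (Nat.card B)) (hA : X ≤ A) (hB : X ≤ B) : X = ⊥ := by
  rw [Subgroup.eq_bot_iff_forall]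
  intro x hx
  exact eq_one_of_mem_of_coprime h (hA hx) (hB hx)

theorem good_le_KL {Z L KL A : Subgroup G} (h : Good Z L KL) (hA : A ≤ Z)
    (hcop : (Nat.card A).Coprime (Nat.card (kstar L KL))) : A ≤ KL := by
  intro a ha
  obtain ⟨k, hk, c, hc, rfl⟩ := good_exists_mul h (hA ha)
  obtain ⟨e, f, hef⟩ := good_exponents h
  have hc1 : c = 1 := by
    apply eq_one_of_mem_of_coprime hcop _ hc
    rw [← (hef k hk c hc).1]; exact pow_mem ha e
  rw [hc1, mul_one]; exact hk

theorem good_le_kstar {Z L KL A : Subgroup G} (h : Good Z L KL) (hA : A ≤ Z)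
    (hcop : (Nat.card A).Coprime (Nat.card KL)) : A ≤ kstar L KL := by
  intro a ha
  obtain ⟨k, hk, c, hc, rfl⟩ := good_exists_mul h (hA ha)
  obtain ⟨e, f, hef⟩ := good_exponents h
  have hk1 : k = 1 := by
    apply eq_one_of_mem_of_coprime hcop _ hk
    rw [← (hef k hk c hc).2]; exact pow_mem ha f
  rw [hk1, one_mul]; exact hc

theorem kstar_coprime_of_sigma_disjoint {L KL L' KL' : Subgroup G}
    (hd : ∀ q, q ∈ sigma L → q ∉ sigma L') :
    (Nat.card (kstar L KL)).Coprime (Nat.card (kstar L' KL')) := by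
  apply Nat.coprime_of_dvd
  intro q hq h1 h2
  exact hd q
    (Cfsg.Agent.Lib.Helper67.BG.sigmaCore_isPi L q hq
      (h1.trans (Subgroup.card_dvd_of_le (kstar_le_sigmaCore L KL))))
    (Cfsg.Agent.Lib.Helper67.BG.sigmaCore_isPi L' q hq
      (h2.trans (Subgroup.card_dvd_of_le (kstar_le_sigmaCore L' KL'))))

/-- The prime case: if `KL` has prime order and `C_{M_σ}(K)`, `C_{L_σ}(KL)` have coprime orders,
then `(L, KL)` is the partner pair of `(M, K)`. -/
theorem prime_case {Z M K L KL : Subgroup G} (h : Good Z M K) (h' : Good Z L KL)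
    (hks : kstar M K ≠ ⊥) (hp : (Nat.card KL).Prime)
    (hcop : (Nat.card (kstar M K)).Coprime (Nat.card (kstar L KL))) :
    kstar M K = KL ∧ K = kstar L KL := by
  have h1 : kstar M K ≤ KL := good_le_KL h' (good_le_right h) hcop
  have h2 : kstar M K = KL := by
    apply Subgroup.eq_of_le_of_card_ge h1
    have hd : Nat.card (kstar M K) ∣ Nat.card KL := Subgroup.card_dvd_of_le h1
    rcases (Nat.dvd_prime hp).mp hd with h3 | h3
    · exact absurd (Subgroup.card_eq_one.mp h3) hks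
    · exact h3.ge
  have hc1 := good_card h
  have hc2 := good_card h'
  have hcK : Nat.card (kstar M K) = Nat.card KL := by rw [h2]
  have h3 : Nat.card K = Nat.card (kstar L KL) := by
    have hpos : 0 < Nat.card KL := hp.pos
    have h4 : Nat.card KL * Nat.card K = Nat.card KL * Nat.card (kstar L KL) := by
      rw [← hc2, hc1, hcK, mul_comm]
    exact Nat.eq_of_mul_eq_mul_left hpos h4
  have h5 : K ≤ kstar L KL :=
    good_le_kstar h' (good_le_left h) (by rw [← hcK]; exact good_coprime h)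
  exact ⟨h2, Subgroup.eq_of_le_of_card_ge h5 h3.ge⟩

theorem partner_of_eq {M K L KL : Subgroup G} (hL : IsCoatom L)
    (hKL : IsPiHallOf (kappa L) KL L) (h1 : kstar M K = KL) (h2 : K = kstar L KL) :
    IsCoatom L ∧ IsPiHallOf (kappa L) (kstar M K) L ∧
      K = sigmaCore L ⊓ Subgroup.centralizer ((kstar M K : Subgroup G) : Set G) := by
  refine ⟨hL, ?_, ?_⟩
  · rw [h1]; exact hKL
  · rw [h1]; exact h2

/-- **B–G Theorem 14.7 (existence of the partner `M*`)**, from the packages. -/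
theorem partner_exists_of (hCount : LemCount.{u}) (hKstar : LemKstar.{u}) (hT2 : LemT2.{u})
    (hPair : LemPair.{u}) (hTI : LemTI.{u}) (hDT : LemDT.{u}) : PartnerExists.{u} := by
  intro G _ _ hG h1350 h1375 h1377 h1378 h1429 h1430 h1431 h1432 h1433 M hM K hK hK1
  classical
  by_contra hno
  obtain ⟨Z, hZdef⟩ : ∃ Z : Subgroup G, Z = K ⊔ kstar M K := ⟨_, rfl⟩
  have hgood0 : Good Z M K := ⟨hM, hK, hK1, hZdef.symm⟩
  have hKs1 : kstar M K ≠ ⊥ := hKstar hG h1430 M hM K hK hK1
  -- a coatom above the normalizer of a subgroup of prime order of `K`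
  have hXL : ∀ X : Subgroup G, X ≤ K → (Nat.card X).Prime →
      ∃ L KL : Subgroup G, Good Z L KL ∧ kstar M K ≤ KL ∧ X ≤ kstar L KL ∧ kstar L KL ≤ K := by
    intro X hXK hXp
    have hX1 : X ≠ ⊥ := by
      intro h
      rw [h, Subgroup.card_bot] at hXp
      exact Nat.not_prime_one hXp
    have hXtop : X ≠ ⊤ := by
      intro h
      apply hM.1
      rw [eq_top_iff, ← h]
      exact hXK.trans hK.1
    obtain ⟨L, hL, hNL⟩ := Cfsg.Agent.Lib.Helper35.BG.exists_coatom_ge
      (Cfsg.Agent.Lib.Helper35.BG.normalizer_ne_top hG hX1 hXtop)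
    obtain ⟨KL, hg, h1, h2, h3⟩ :=
      hPair hG h1378 h1430 h1431 h1432 M hM K hK hK1 X hXK hXp L hL hNL
    refine ⟨L, KL, ?_, h1, h2, h3⟩
    rw [hZdef]; exact hg
  -- Step 2: `M` is of type P1
  have hP1M : IsP1 M := by
    by_contra hnp
    have hKp : (Nat.card K).Prime := hT2 hG h1429 h1430 M hM K hK hK1 hnp
    obtain ⟨L, KL, hg, h1, h2, h3⟩ := hXL K le_rfl hKp
    have hKeq : K = kstar L KL := le_antisymm h2 h3
    have hcard1 := good_card hgood0
    have hcard2 := good_card hg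
    have hcK : Nat.card (kstar L KL) = Nat.card K := by rw [← hKeq]
    have hcards : Nat.card (kstar M K) = Nat.card KL := by
      have hpos : 0 < Nat.card K := hKp.pos
      have h4 : Nat.card K * Nat.card (kstar M K) = Nat.card K * Nat.card KL := by
        rw [← hcard1, hcard2, hcK, mul_comm]
      exact Nat.eq_of_mul_eq_mul_left hpos h4
    have hKseq : kstar M K = KL := Subgroup.eq_of_le_of_card_ge h1 hcards.ge
    obtain ⟨a, b, c⟩ := partner_of_eq hg.1 hg.2.1 hKseq hKeq
    exact hno ⟨L, a, b, c, Or.inl hnp⟩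
  -- the `σ`-sets of far pairs are disjoint from `σ(M)`
  have hsig : ∀ L KL : Subgroup G, Good Z L KL → kstar L KL ≠ kstar M K →
      ∀ q, q ∈ sigma M → q ∉ sigma L := by
    intro L KL hg hne q hqM hqL
    obtain ⟨g, hgL⟩ := h1378.2 M L hM hg.1 ⟨q, hqM, hqL⟩
    apply hne
    apply good_kstar_eq hg hgood0
    rw [hgL, Cfsg.Agent.Lib.Helper27.BG.sigma_map_conj]
  -- Step 3: the far pairs are of type P1
  have hP1L : ∀ L KL : Subgroup G, Good Z L KL → kstar L KL ≠ kstar M K → IsP1 L := by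
    intro L KL hg hne
    by_contra hnp
    have hKLp : (Nat.card KL).Prime := hT2 hG h1429 h1430 L hg.1 KL hg.2.1 hg.2.2.1 hnp
    obtain ⟨h1, h2⟩ := prime_case hgood0 hg hKs1 hKLp
      (kstar_coprime_of_sigma_disjoint (hsig L KL hg hne))
    obtain ⟨a, b, c⟩ := partner_of_eq hg.1 hg.2.1 h1 h2
    exact hno ⟨L, a, b, c, Or.inr hnp⟩
  -- Step 4: the family of all `C_{L_σ}(KL)`
  obtain ⟨S, hS⟩ : ∃ S : Finset (Subgroup G),
      ∀ C, C ∈ S ↔ ∃ L KL : Subgroup G, Good Z L KL ∧ C = kstar L KL := by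
    have hfin : Set.Finite {C : Subgroup G | ∃ L KL : Subgroup G, Good Z L KL ∧ C = kstar L KL} :=
      Set.toFinite _
    exact ⟨hfin.toFinset, fun C => by simp [Set.Finite.mem_toFinset]⟩
  have hrep : ∀ C : Subgroup G, ∃ p : Subgroup G × Subgroup G,
      C ∈ S → (Good Z p.1 p.2 ∧ C = kstar p.1 p.2 ∧ IsP1 p.1) := by
    intro C
    by_cases hC : C ∈ S
    · obtain ⟨L, KL, hg, hCeq⟩ := (hS C).mp hC
      by_cases hCK : C = kstar M K
      · exact ⟨(M, K), fun _ => ⟨hgood0, hCK, hP1M⟩⟩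
      · exact ⟨(L, KL), fun _ => ⟨hg, hCeq, hP1L L KL hg (fun h => hCK (hCeq.trans h))⟩⟩
    · exact ⟨(M, K), fun h => absurd h hC⟩
  choose rep hrep using hrep
  refine hCount Z S (fun C => tildeOf (rep C).1 ((sigmaCore (rep C).1 : Set G) \ {1}))
      (fun C => Nat.card (sigmaCore (rep C).1)) (fun C => Nat.card (rep C).1)
      ?_ ?_ ?_ ?_ ?_ ?_ ?_ ?_
  · -- two members
    obtain ⟨X, p, hp, hXc, hXK⟩ := Cfsg.Agent.Lib.Helper27.BG.exists_prime_card_le hK1
    have hXp : (Nat.card X).Prime := by rw [hXc]; exact hp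
    obtain ⟨L, KL, hg, h1, h2, h3⟩ := hXL _ hXK hXp
    have hmem1 : kstar M K ∈ S := (hS _).mpr ⟨M, K, hgood0, rfl⟩
    have hmem2 : kstar L KL ∈ S := (hS _).mpr ⟨L, KL, hg, rfl⟩
    have hne : kstar M K ≠ kstar L KL := by
      intro heq
      have hXs : X ≤ kstar M K := by rw [heq]; exact h2
      have hX1 : X = ⊥ := eq_bot_of_le_of_coprime (good_coprime hgood0) hXK hXs
      rw [hX1, Subgroup.card_bot] at hXp
      exact Nat.not_prime_one hXp
    exact Finset.one_lt_card.mpr ⟨_, hmem1, _, hmem2, hne⟩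
  · intro C hC
    obtain ⟨hg, hCeq, -⟩ := hrep C hC
    exact hCeq.le.trans (good_le_right hg)
  · intro C hC
    obtain ⟨hg, hCeq, hP1⟩ := hrep C hC
    rw [h1377 (rep C).1 hg.1, mul_assoc, mul_comm (Subgroup.index _), Subgroup.card_mul_index]
  · intro C hC
    obtain ⟨hg, hCeq, hP1⟩ := hrep C hC
    have h1 := card_of_isP1 (h1350 (rep C).1 hg.1).1 hg.2.1 hP1
    have h2 := good_card hg
    have h3 : Nat.card C = Nat.card (kstar (rep C).1 (rep C).2) :=
      congrArg (fun H : Subgroup G => Nat.card H) hCeq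
    rw [h1, h2, h3, mul_assoc]
  · intro C hC
    obtain ⟨hg, hCeq, hP1⟩ := hrep C hC
    have h3 : Nat.card C = Nat.card (kstar (rep C).1 (rep C).2) :=
      congrArg (fun H : Subgroup G => Nat.card H) hCeq
    rw [h3]
    exact good_three_le hG h1431 hg (hKstar hG h1430 _ hg.1 _ hg.2.1 hg.2.2.1)
  · intro z hz hzS h hhz _
    by_cases hzK : z ∈ K
    · have hz1 : z ≠ 1 := by
        intro h1
        apply hzS (kstar M K) ((hS _).mpr ⟨M, K, hgood0, rfl⟩)
        rw [h1]; exact one_mem _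
      have hzp : Subgroup.zpowers z ≠ ⊥ := by
        rw [Ne, Subgroup.zpowers_eq_bot]; exact hz1
      obtain ⟨X, p, hp, hXc, hXz⟩ := Cfsg.Agent.Lib.Helper27.BG.exists_prime_card_le hzp
      have hXp : (Nat.card X).Prime := by rw [hXc]; exact hp
      have hXK : X ≤ K := hXz.trans (Subgroup.zpowers_le.mpr hzK)
      obtain ⟨L, KL, hg, h1, h2, h3⟩ := hXL _ hXK hXp
      have hzKL : z ∉ KL := by
        intro hzKL
        have hXKL : X ≤ KL := hXz.trans (Subgroup.zpowers_le.mpr hzKL)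
        have hX1 : X = ⊥ := eq_bot_of_le_of_coprime (good_coprime hg) hXKL h2
        rw [hX1, Subgroup.card_bot] at hXp
        exact Nat.not_prime_one hXp
      exact hTI hG h1430 h1431 Z L KL hg z hz hzKL (hzS _ ((hS _).mpr ⟨L, KL, hg, rfl⟩)) h hhz
    · exact hTI hG h1430 h1431 Z M K hgood0 z hz hzK
        (hzS _ ((hS _).mpr ⟨M, K, hgood0, rfl⟩)) h hhz
  · intro C hC z hz hzS g
    obtain ⟨hg, hCeq, hP1⟩ := hrep C hC
    refine hDT hG h1350 h1375 h1430 h1431 Z _ _ hg z hz (fun h => hzS C hC ?_) g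
    rw [hCeq]; exact h
  · intro C hC C' hC' hne
    obtain ⟨hg, hCeq, -⟩ := hrep C hC
    obtain ⟨hg', hCeq', -⟩ := hrep C' hC'
    rw [Set.disjoint_iff_inter_eq_empty]
    apply Cfsg.Agent.Lib.Helper76.BG.tilde_disjoint hG h1378 h1433 _ _ hg.1 hg'.1
    intro g hgL
    apply hne
    have hσ : sigma (rep C).1 = sigma (rep C').1 := by
      rw [hgL, Cfsg.Agent.Lib.Helper27.BG.sigma_map_conj]
    exact hCeq.trans ((good_kstar_eq hg hg' hσ).trans hCeq'.symm)

end Cfsg.Agent.Lib.Helper2.BG47
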