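import Mathlib
import Cfsg.Agent.Lib.Helper2.BG.Partner
import Cfsg.Agent.Lib.Helper67.BG.HallUtil
import Cfsg.Agent.Lib.Helper67.BG.S1358Core
import Cfsg.Agent.Lib.Helper66.BG.S1367Core
import Cfsg.Agent.Lib.Helper76.BG.S1420Core
import Cfsg.Agent.Lib.Helper25.BG.Sec11
import Cfsg.Agent.Lib.Helper35.BG.Hall
import Cfsg.Statements.S1350
import Cfsg.Statements.S1405
import Cfsg.Statements.S1415
import Cfsg.Statements.S1418
import Cfsg.Statements.S1420
import Cfsg.Statements.S1428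
import Cfsg.Statements.S1430

/-!
# S1430 (B–G Lemma 14.3 (a), (b)): the assembly

`s1430_of` derives S1430 from the frozen statements S1350, S1405, S1415, S1418, S1420, S1428 and
four packages, given as explicit hypotheses:

* `hP0`  (B–G 13.5): a Hall `τ₁(M)`-subgroup of a complement `E` acts in a prime manner on `M_σ`;
* `hII`  (B–G 13.11): if some non-identity element of the Hall `τ₃(M)`-subgroup of `E` has a
  non-trivial centralizer in `M_σ`, then `τ₂(M) = ∅`, every subgroup of prime order of `E` is normal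
  in `E`, and `E` acts in a prime manner on `M_σ`;
* `hTau12` (B–G 13.12);
* `h3c` (clause (3c)): `X` of prime order `p ∉ σ(M)`, `M` of `p`-rank one, `C_{M_σ}(X) ≠ 1`,
  `J` a coatom over `N_G(X)`: `p ∈ σ(J)`.
-/

set_option autoImplicit false
set_option linter.unusedVariables false
set_option linter.unusedSectionVars false

namespace Cfsg.Agent.Lib.Helper2.BG30

open Cfsg
open Cfsg.Agent.Lib.Helper2.BG47 (eq_one_of_mem_of_coprime eq_bot_of_le_of_coprime)

universe u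

variable {G : Type u} [Group G]

theorem centralizer_zpowers_eq (x : G) :
    Subgroup.centralizer ((Subgroup.zpowers x : Subgroup G) : Set G) =
      Subgroup.centralizer ({x} : Set G) := by
  apply le_antisymm
  · apply Subgroup.centralizer_le
    intro y hy
    rw [Set.mem_singleton_iff] at hy
    rw [hy]
    exact Subgroup.mem_zpowers x
  · intro y hy
    rw [Subgroup.mem_centralizer_iff] at hy ⊢
    intro h hh
    obtain ⟨n, rfl⟩ := Subgroup.mem_zpowers_iff.mp hh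
    have h1 : Commute x y := hy x (Set.mem_singleton x)
    exact (h1.zpow_left n).eq

theorem mem_centralizer_singleton {x y : G} (h : x * y = y * x) :
    y ∈ Subgroup.centralizer ({x} : Set G) := by
  rw [Subgroup.mem_centralizer_iff]
  intro h' hh
  rw [Set.mem_singleton_iff] at hh
  rw [hh]
  exact h

theorem le_normalizer_of_commutator_le {E U : Subgroup G} (hUE : U ≤ E) (h : ⁅E, E⁆ ≤ U) :
    E ≤ Subgroup.normalizer (U : Set G) := by
  intro e he
  rw [Subgroup.mem_normalizer_iff]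
  intro n
  constructor
  · intro hn
    have h1 : e * n * e⁻¹ = (e * n * e⁻¹ * n⁻¹) * n := by group
    have h2 : e * n * e⁻¹ * n⁻¹ ∈ ⁅E, E⁆ := Subgroup.commutator_mem_commutator he (hUE hn)
    rw [h1]
    exact U.mul_mem (h h2) hn
  · intro hn'
    have h1 : n = (e⁻¹ * (e * n * e⁻¹) * e⁻¹⁻¹ * (e * n * e⁻¹)⁻¹) * (e * n * e⁻¹) := by group
    have h2 : e⁻¹ * (e * n * e⁻¹) * e⁻¹⁻¹ * (e * n * e⁻¹)⁻¹ ∈ ⁅E, E⁆ :=
      Subgroup.commutator_mem_commutator (E.inv_mem he) (hUE hn')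
    rw [h1]
    exact U.mul_mem (h h2) hn'

/-- `N_M(Y) = N_E(Y) C_S(Y)` for `Y ≤ E`, `E` a complement of the normal subgroup `S` of `M`. -/
theorem norm_decomp {E S M Y : Subgroup G} (hE : IsComplIn E S M)
    (hSn : M ≤ Subgroup.normalizer (S : Set G)) (hY : Y ≤ E) {m : G} (hm : m ∈ M)
    (hmY : m ∈ Subgroup.normalizer (Y : Set G)) :
    ∃ e ∈ E, e ∈ Subgroup.normalizer (Y : Set G) ∧ ∃ s ∈ S,
      s ∈ Subgroup.centralizer (Y : Set G) ∧ m = e * s := by
  obtain ⟨e, he, s, hs, rfl⟩ := hE.2.2.2 m hm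
  have hsC : s ∈ Subgroup.centralizer (Y : Set G) := by
    rw [Subgroup.mem_centralizer_iff]
    intro y hy
    have h1 : e * s * y * (e * s)⁻¹ ∈ Y := (Subgroup.mem_normalizer_iff.mp hmY y).mp hy
    have h2 : s * y * s⁻¹ ∈ E := by
      have e1 : s * y * s⁻¹ = e⁻¹ * (e * s * y * (e * s)⁻¹) * e := by group
      rw [e1]
      exact E.mul_mem (E.mul_mem (E.inv_mem he) (hY h1)) he
    have hyM : y ∈ M := hE.1 (hY hy)
    have h3 : s * y * s⁻¹ * y⁻¹ ∈ S := by
      have h4 : y * s⁻¹ * y⁻¹ ∈ S :=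
        (Subgroup.mem_normalizer_iff.mp (hSn hyM) s⁻¹).mp (S.inv_mem hs)
      have e2 : s * y * s⁻¹ * y⁻¹ = s * (y * s⁻¹ * y⁻¹) := by group
      rw [e2]; exact S.mul_mem hs h4
    have h4 : s * y * s⁻¹ * y⁻¹ ∈ E := E.mul_mem h2 (E.inv_mem (hY hy))
    have h5 : s * y * s⁻¹ * y⁻¹ = 1 := by
      have h6 : s * y * s⁻¹ * y⁻¹ ∈ E ⊓ S := Subgroup.mem_inf.mpr ⟨h4, h3⟩
      rw [hE.2.2.1] at h6
      exact Subgroup.mem_bot.mp h6
    calc y * s = (s * y * s⁻¹ * y⁻¹)⁻¹ * (s * y) := by group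
      _ = s * y := by rw [h5, inv_one, one_mul]
  refine ⟨e, he, ?_, s, hs, hsC, rfl⟩
  have hsN : s ∈ Subgroup.normalizer (Y : Set G) :=
    Cfsg.Agent.Lib.Helper35.BG.centralizer_le_normalizer' Y hsC
  have e3 : e = e * s * s⁻¹ := by group
  rw [e3]
  exact (Subgroup.normalizer (Y : Set G)).mul_mem hmY
    ((Subgroup.normalizer (Y : Set G)).inv_mem hsN)

variable [Finite G]

theorem pRankLE_one_of_mem_kappa {M : Subgroup G}
    (hα : IsPiHallOf (alpha M) (alphaCore M) M) (hασ : alphaCore M ≤ sigmaCore M) {p : ℕ}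
    (hκ : p ∈ kappa M) : PRankLE p 1 M := by
  by_contra h
  exact Cfsg.Agent.Lib.Helper67.BG.not_mem_kappa_of_mem_tau2 (M := M)
    ⟨hκ.1, hκ.2.2.1,
      Cfsg.Agent.Lib.Helper67.BG.pRankLE_two_of_not_mem_sigma M hα hασ hκ.1 hκ.2.2.1, h⟩ hκ

/-- An element of order `p ∈ κ(M)` of `M` has a non-trivial centralizer in `M_σ`. -/
theorem kappa_cent_ne_bot {M : Subgroup G} {p : ℕ} (hr1 : PRankLE p 1 M) (hκ : p ∈ kappa M)
    {x : G} (hxM : x ∈ M) (hx : orderOf x = p) :
    sigmaCore M ⊓ Subgroup.centralizer ({x} : Set G) ≠ ⊥ := by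
  have hp : p.Prime := hκ.1
  have : Fact p.Prime := ⟨hp⟩
  have hpg : IsPGroup p (Subgroup.zpowers (⟨x, hxM⟩ : M)) := by
    apply IsPGroup.of_card (n := 1)
    rw [Nat.card_zpowers, Subgroup.orderOf_mk, hx, pow_one]
  obtain ⟨P, hP⟩ := hpg.exists_le_sylow
  obtain ⟨hcyc, x', hx'P, hx'1, y, hy, hy1, hcomm⟩ := hκ.2.2.2 P
  have hxP : (⟨x, hxM⟩ : M) ∈ (P : Subgroup M) := hP (Subgroup.mem_zpowers _)
  -- `x'` and `x` commute
  have hc : (x' : G) * x = x * (x' : G) := by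
    have hcm : ∀ a b : (P : Subgroup M), a * b = b * a := by
      have := hcyc
      exact isMulCommutative_iff.mp IsCyclic.isMulCommutative
    have h1 : (⟨x', hx'P⟩ : (P : Subgroup M)) * ⟨⟨x, hxM⟩, hxP⟩ =
        ⟨⟨x, hxM⟩, hxP⟩ * ⟨x', hx'P⟩ := hcm _ _
    have h2 := congrArg (fun t : (P : Subgroup M) => ((t : M) : G)) h1
    exact h2
  -- the subgroup generated by `x'` is a nontrivial `p`-group
  have hx'1G : (x' : G) ≠ 1 := fun h => hx'1 (Subtype.ext h)
  obtain ⟨k, hk⟩ := (P.2 ⟨x', hx'P⟩)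
  have hk' : (x' : G) ^ p ^ k = 1 := by
    have h2 := congrArg (fun t : (P : Subgroup M) => ((t : M) : G)) hk
    simpa using h2
  have hZ : IsPGroup p (Subgroup.zpowers (x' : G)) := by
    rintro ⟨g, hg⟩
    obtain ⟨n, rfl⟩ := Subgroup.mem_zpowers_iff.mp hg
    refine ⟨k, Subtype.ext ?_⟩
    show ((x' : G) ^ n) ^ p ^ k = 1
    rw [← zpow_natCast, ← zpow_mul, mul_comm, zpow_mul, zpow_natCast, hk', one_zpow]
  have hZne : Subgroup.zpowers (x' : G) ≠ ⊥ := by
    rw [Ne, Subgroup.zpowers_eq_bot]; exact hx'1G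
  have hdvd : p ∣ Nat.card (Subgroup.zpowers (x' : G)) :=
    Cfsg.Agent.Lib.Helper67.BG.dvd_card_of_isPGroup_ne_bot hZ hZne
  obtain ⟨z, hz⟩ := exists_prime_orderOf_dvd_card' (G := Subgroup.zpowers (x' : G)) p hdvd
  have hzo : orderOf (z : G) = p := by rw [Subgroup.orderOf_coe]; exact hz
  obtain ⟨n, hn⟩ := Subgroup.mem_zpowers_iff.mp z.2
  have hzx : (z : G) * x = x * (z : G) := by
    rw [← hn]
    exact ((show Commute (x' : G) x from hc).zpow_left n).eq
  have hzM : (z : G) ∈ M := by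
    rw [← hn]; exact M.zpow_mem x'.2 n
  have hxz : x ∈ Subgroup.zpowers (z : G) :=
    Cfsg.Agent.Lib.Helper66.BG.mem_zpowers_of_pRankLE_one hp hr1 hzM hxM hzx hzo hx
  obtain ⟨m, hm⟩ := Subgroup.mem_zpowers_iff.mp hxz
  -- `y` commutes with `x`
  have hxy : x * y = y * x := by
    rw [← hm, ← hn]
    exact (((show Commute (x' : G) y from hcomm).zpow_left n).zpow_left m).eq
  intro hbot
  have h1 : y ∈ sigmaCore M ⊓ Subgroup.centralizer ({x} : Set G) :=
    Subgroup.mem_inf.mpr ⟨hy, mem_centralizer_singleton hxy⟩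
  rw [hbot] at h1
  exact hy1 (Subgroup.mem_bot.mp h1)

/-- A `π`-subgroup of `M` containing a Hall `π`-subgroup of `M` is equal to it. -/
theorem eq_of_isPiHallOf_le {π : Set ℕ} {K M E1 : Subgroup G} (hK : IsPiHallOf π K M)
    (hKE : K ≤ E1) (hEM : E1 ≤ M) (hE1 : ∀ p : ℕ, p.Prime → p ∣ Nat.card E1 → p ∈ π) :
    E1 = K := by
  symm
  apply Subgroup.eq_of_le_of_card_ge hKE
  have e1 : Nat.card K * K.relIndex M = Nat.card M :=
    Cfsg.Agent.Lib.Helper35.BG.card_mul_relIndex' hK.1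
  have hd : Nat.card E1 ∣ Nat.card K * K.relIndex M := by
    rw [e1]; exact Subgroup.card_dvd_of_le hEM
  have hcop : (Nat.card E1).Coprime (K.relIndex M) :=
    Nat.coprime_of_dvd fun q hq h1 h2 => hK.2.2 q hq (hE1 q hq h1) h2
  exact Nat.le_of_dvd Nat.card_pos (hcop.dvd_of_dvd_mul_right hd)

/-- The normalizer clauses of S1430. -/
theorem final_norm {M E K U : Subgroup G} (hE : IsComplIn E (sigmaCore M) M)
    (hKE : K ≤ E) (hUE : U ≤ E)
    (hEUK : ∀ e ∈ E, ∃ u ∈ U, ∃ k ∈ K, e = u * k)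
    (hKU : K ≤ Subgroup.normalizer (U : Set G))
    (hUK : U ⊓ K = ⊥)
    (hreg : ∀ k ∈ K, k ≠ 1 → U ⊓ Subgroup.centralizer ({k} : Set G) = ⊥)
    (hsp : ∀ k ∈ K, k ≠ 1 → sigmaCore M ⊓ Subgroup.centralizer ({k} : Set G) =
      sigmaCore M ⊓ Subgroup.centralizer (K : Set G))
    (Y : Subgroup G) (hYK : Y ≤ K) (hY1 : Y ≠ ⊥)
    (hKY : K ≤ Subgroup.normalizer (Y : Set G)) :
    M ⊓ Subgroup.normalizer (Y : Set G) =
      K ⊔ (sigmaCore M ⊓ Subgroup.centralizer (K : Set G)) := by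
  apply le_antisymm
  · intro m hm
    obtain ⟨hmM, hmY⟩ := Subgroup.mem_inf.mp hm
    obtain ⟨e, he, heY, s, hs, hsC, rfl⟩ :=
      norm_decomp hE (Cfsg.Agent.Lib.Helper67.BG.sigmaCore_normalizer M) (hYK.trans hKE) hmM hmY
    obtain ⟨y0, hy0, hy01⟩ := Y.bot_or_exists_ne_one.resolve_left hY1
    have hs' : s ∈ sigmaCore M ⊓ Subgroup.centralizer (K : Set G) := by
      rw [← hsp y0 (hYK hy0) hy01]
      exact Subgroup.mem_inf.mpr ⟨hs,
        mem_centralizer_singleton ((Subgroup.mem_centralizer_iff.mp hsC) y0 hy0)⟩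
    obtain ⟨u, hu, k, hk, rfl⟩ := hEUK e he
    have huY : u ∈ Subgroup.normalizer (Y : Set G) := by
      have e1 : u = u * k * k⁻¹ := by group
      rw [e1]
      exact (Subgroup.normalizer (Y : Set G)).mul_mem heY
        ((Subgroup.normalizer (Y : Set G)).inv_mem (hKY hk))
    have hu1 : u = 1 := by
      have h1 : u * y0 * u⁻¹ ∈ Y := (Subgroup.mem_normalizer_iff.mp huY y0).mp hy0
      have h2 : u * y0 * u⁻¹ * y0⁻¹ ∈ K := K.mul_mem (hYK h1) (K.inv_mem (hYK hy0))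
      have h3 : u * y0 * u⁻¹ * y0⁻¹ ∈ U := by
        have h4 : y0 * u⁻¹ * y0⁻¹ ∈ U :=
          (Subgroup.mem_normalizer_iff.mp (hKU (hYK hy0)) u⁻¹).mp (U.inv_mem hu)
        have e2 : u * y0 * u⁻¹ * y0⁻¹ = u * (y0 * u⁻¹ * y0⁻¹) := by group
        rw [e2]; exact U.mul_mem hu h4
      have h4 : u * y0 * u⁻¹ * y0⁻¹ = 1 := by
        have h5 : u * y0 * u⁻¹ * y0⁻¹ ∈ U ⊓ K := Subgroup.mem_inf.mpr ⟨h3, h2⟩
        rw [hUK] at h5; exact Subgroup.mem_bot.mp h5
      have h5 : y0 * u = u * y0 := by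
        calc y0 * u = (u * y0 * u⁻¹ * y0⁻¹)⁻¹ * (u * y0) := by group
          _ = u * y0 := by rw [h4, inv_one, one_mul]
      have h6 : u ∈ U ⊓ Subgroup.centralizer ({y0} : Set G) :=
        Subgroup.mem_inf.mpr ⟨hu, mem_centralizer_singleton h5⟩
      rw [hreg y0 (hYK hy0) hy01] at h6
      exact Subgroup.mem_bot.mp h6
    rw [hu1, one_mul]
    exact Subgroup.mul_mem_sup hk hs'
  · apply sup_le
    · exact le_inf (hKE.trans hE.1) hKY
    · intro s hs
      obtain ⟨hsS, hsC⟩ := Subgroup.mem_inf.mp hs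
      refine Subgroup.mem_inf.mpr ⟨Cfsg.Agent.Lib.Helper67.BG.sigmaCore_le M hsS, ?_⟩
      apply Cfsg.Agent.Lib.Helper35.BG.centralizer_le_normalizer' Y
      exact Subgroup.centralizer_le (SetLike.coe_subset_coe.mpr hYK) hsC

/-- **S1430 (B–G Lemma 14.3 (a), (b))** from the packages `hP0`, `hII`, `hTau12`, `h3c`. -/
theorem s1430_of (hG : Cfsg.IsMinSimpleOddOrder G)
    (h1350 : type_of% (@Cfsg.CfsgFrozen.S1350 G _ _ hG))
    (h1405 : type_of% (@Cfsg.CfsgFrozen.S1405 G _ _ hG))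
    (h1415 : type_of% (@Cfsg.CfsgFrozen.S1415 G _ _ hG))
    (h1418 : type_of% (@Cfsg.CfsgFrozen.S1418 G _ _ hG))
    (h1420 : type_of% (@Cfsg.CfsgFrozen.S1420 G _ _ hG))
    (h1428 : type_of% (@Cfsg.CfsgFrozen.S1428 G _ _ hG))
    (hP0 : ∀ (M : Subgroup G), IsCoatom M → ∀ E : Subgroup G, IsComplIn E (sigmaCore M) M →
      ∀ E1 : Subgroup G, IsPiHallOf (tau1 M) E1 E → ∀ x ∈ E1, x ≠ 1 →
        sigmaCore M ⊓ Subgroup.centralizer ({x} : Set G) =
          sigmaCore M ⊓ Subgroup.centralizer (E1 : Set G))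
    (hII : ∀ (M : Subgroup G), IsCoatom M → ∀ E : Subgroup G, IsComplIn E (sigmaCore M) M →
      ∀ E3 : Subgroup G, IsPiHallOf (tau3 M) E3 E →
      (∃ x ∈ E3, x ≠ 1 ∧ sigmaCore M ⊓ Subgroup.centralizer ({x} : Set G) ≠ ⊥) →
        tau2 M = ∅ ∧
        (∀ X : Subgroup G, X ≤ E → (Nat.card X).Prime → E ≤ Subgroup.normalizer (X : Set G)) ∧
        ∀ e ∈ E, e ≠ 1 → sigmaCore M ⊓ Subgroup.centralizer ({e} : Set G) =
          sigmaCore M ⊓ Subgroup.centralizer (E : Set G))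
    (hTau12 : ∀ (M : Subgroup G), IsCoatom M → ∀ E : Subgroup G, IsComplIn E (sigmaCore M) M →
      ∀ (q : ℕ) [Fact q.Prime], q ∈ tau2 M →
      ∀ A : Subgroup G, (A ≤ E ∧ IsElementaryAbelian q A ∧ Nat.card A = q ^ 2) →
      ∀ p : ℕ, p ∈ tau1 M → ∀ P : Subgroup G, P ≤ E → Nat.card P = p →
        A ⊓ Subgroup.centralizer (P : Set G) ≠ ⊥ →
        sigmaCore M ⊓ Subgroup.centralizer (P : Set G) = ⊥)
    (h3c : ∀ (M : Subgroup G), IsCoatom M → ∀ (p : ℕ) [Fact p.Prime], p ∉ sigma M →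
      PRankLE p 1 M → ∀ X : Subgroup G, X ≤ M → Nat.card X = p →
      sigmaCore M ⊓ Subgroup.centralizer (X : Set G) ≠ ⊥ →
      ∀ J : Subgroup G, IsCoatom J → Subgroup.normalizer (X : Set G) ≤ J → p ∈ sigma J) :
    type_of% (@Cfsg.CfsgFrozen.S1430 G _ _ hG) := by
  intro M hM K hK hK1
  classical
  have hodd : Odd (Nat.card G) := hG.1
  have hσH : IsPiHallOf (sigma M) (sigmaCore M) M := (h1350 M hM).1
  obtain ⟨hαH, -, hασ, -, -⟩ := h1405 M hM
  have hKσ : ∀ q : ℕ, q.Prime → q ∣ Nat.card K → q ∉ sigma M :=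
    fun q hq hd => (hK.2.1 q hq hd).2.2.1
  obtain ⟨E, hE, hKE⟩ := Cfsg.Agent.Lib.Helper76.BG.exists_compl_ge hG M hM hσH K hK.1 hKσ
  have hEtop : E ≠ ⊤ := by
    intro h
    apply hM.1
    rw [eq_top_iff, ← h]
    exact hE.1
  have hEsolv : Group.IsSolvable E := Cfsg.Agent.Lib.Helper35.BG.isSolvable_of_ne_top hG hEtop
  have hcardM : Nat.card M = Nat.card E * Nat.card (sigmaCore M) :=
    Cfsg.Agent.Lib.Helper23.card_of_isComplIn hE
  have hEσ : ∀ q : ℕ, q.Prime → q ∣ Nat.card E → q ∉ sigma M := by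
    intro q hq hd hσ
    apply hσH.2.2 q hq hσ
    rw [Cfsg.Agent.Lib.Helper35.BG.relIndex_right_of_isComplIn hE]
    exact hd
  have hr1κ : ∀ q, q ∈ kappa M → PRankLE q 1 M :=
    fun q hq => pRankLE_one_of_mem_kappa hαH hασ hq
  -- the third part of clause (3)
  have h3 : ∀ X : Subgroup G, X ≤ K → (Nat.card X).Prime → ∀ Mstar : Subgroup G,
      IsCoatom Mstar → Subgroup.normalizer (X : Set G) ≤ Mstar → X ≤ sigmaCore Mstar := by
    intro X hXK hXp J hJ hNJ
    have hpκ : Nat.card X ∈ kappa M := hK.2.1 _ hXp (Subgroup.card_dvd_of_le hXK)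
    have : Fact (Nat.card X).Prime := ⟨hXp⟩
    obtain ⟨x, hxX, hx1, hxo, hxz⟩ := Cfsg.Agent.Lib.Helper66.BG.exists_gen_of_card_prime hXp
    have hXM : X ≤ M := hXK.trans hK.1
    have hD : sigmaCore M ⊓ Subgroup.centralizer (X : Set G) ≠ ⊥ := by
      have h1 := kappa_cent_ne_bot (hr1κ _ hpκ) hpκ (hXM hxX) hxo
      rw [← centralizer_zpowers_eq, hxz] at h1
      exact h1
    have hpJ : Nat.card X ∈ sigma J :=
      h3c M hM (Nat.card X) hpκ.2.2.1 (hr1κ _ hpκ) X hXM rfl hD J hJ hNJ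
    have hXJ : X ≤ J := Subgroup.le_normalizer.trans hNJ
    apply Cfsg.Agent.Lib.Helper27.BG.le_of_coprime_relIndex
      (Cfsg.Agent.Lib.Helper67.BG.sigmaCore_le J)
      (Cfsg.Agent.Lib.Helper67.BG.sigmaCore_normalizer J) hXJ
    rw [Nat.Prime.coprime_iff_not_dvd hXp]
    exact (h1350 J hJ).1.2.2 _ hXp hpJ
  obtain ⟨E3, hE3, -⟩ := Cfsg.Agent.Lib.Helper67.BG.exists_piHallOf_ge (tau3 M) E hEsolv ⊥ bot_le
    (by
      intro p hp hd
      rw [Subgroup.card_bot] at hd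
      exact absurd (Nat.dvd_one.mp hd) hp.one_lt.ne')
  by_cases hcase : ∃ x ∈ E3, x ≠ 1 ∧ sigmaCore M ⊓ Subgroup.centralizer ({x} : Set G) ≠ ⊥
  · -- Case II : `E₃` is not regular on `M_σ`
    obtain ⟨hτ2, hnorm, hsemi⟩ := hII M hM E hE E3 hE3 hcase
    obtain ⟨x3, hx3, hx31, hx3c⟩ := hcase
    have hx3E : x3 ∈ E := hE3.1 hx3
    have hD : sigmaCore M ⊓ Subgroup.centralizer (E : Set G) ≠ ⊥ := by
      rw [← hsemi x3 hx3E hx31]; exact hx3c
    have hEκ : ∀ r : ℕ, r.Prime → r ∣ Nat.card E → r ∈ kappa M := by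
      intro r hr hd
      have : Fact r.Prime := ⟨hr⟩
      have hrσ : r ∉ sigma M := hEσ r hr hd
      have hr2 : PRankLE r 2 M :=
        Cfsg.Agent.Lib.Helper67.BG.pRankLE_two_of_not_mem_sigma M hαH hασ hr hrσ
      have hr1 : PRankLE r 1 M := by
        by_contra h
        have h2 : r ∈ tau2 M := ⟨hr, hrσ, hr2, h⟩
        rw [hτ2] at h2
        exact (Set.mem_empty_iff_false _).mp h2
      obtain ⟨z, hz⟩ := exists_prime_orderOf_dvd_card' (G := E) r hd
      have hzo : orderOf (z : G) = r := by rw [Subgroup.orderOf_coe]; exact hz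
      have hz1 : (z : G) ≠ 1 := by
        intro h
        rw [h, orderOf_one] at hzo
        exact hr.one_lt.ne hzo
      obtain ⟨y, hy, hy1⟩ :=
        (sigmaCore M ⊓ Subgroup.centralizer (E : Set G)).bot_or_exists_ne_one.resolve_left hD
      have hyc : y ∈ sigmaCore M ⊓ Subgroup.centralizer ({(z : G)} : Set G) := by
        rw [hsemi z z.2 hz1]; exact hy
      exact Cfsg.Agent.Lib.Helper67.BG.mem_kappa_of_rank_one hodd M r hrσ hr1 (z : G) (hE.1 z.2)
        hzo y (Subgroup.mem_inf.mp hyc).1 hy1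
        ((Subgroup.mem_centralizer_iff.mp (Subgroup.mem_inf.mp hyc).2) z (Set.mem_singleton _))
    have hKeq : E = K := eq_of_isPiHallOf_le hK hKE hE.1 hEκ
    subst hKeq
    have hbotn : E ≤ Subgroup.normalizer ((⊥ : Subgroup G) : Set G) := by
      intro k _
      rw [Subgroup.mem_normalizer_iff]
      intro n
      simp
    have hEUK : ∀ e ∈ E, ∃ u ∈ (⊥ : Subgroup G), ∃ k ∈ E, e = u * k :=
      fun e he => ⟨1, Subgroup.mem_bot.mpr rfl, e, he, (one_mul e).symm⟩
    refine ⟨fun k hk hk1 => hsemi k hk hk1, ⟨⊥, ?_, ?_, hbotn, fun k hk hk1 => bot_inf_eq _⟩, ?_⟩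
    · rw [Cfsg.Agent.Lib.Helper35.BG.isMulCommutative_subgroup_iff]
      intro a ha b hb
      rw [Subgroup.mem_bot.mp ha, Subgroup.mem_bot.mp hb]
    · refine ⟨bot_le, ?_, ?_⟩
      · intro p hp hd
        rw [Subgroup.card_bot] at hd
        exact absurd (Nat.dvd_one.mp hd) hp.one_lt.ne'
      · intro p hp hpπ hd
        rw [Subgroup.relIndex_bot_left, hcardM] at hd
        rcases (Nat.Prime.dvd_mul hp).mp hd with h | h
        · exact hpπ.2.1 (hEκ p hp h)
        · exact hpπ.2.2 (Cfsg.Agent.Lib.Helper67.BG.sigmaCore_isPi M p hp h)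
    · intro X hXK hXp
      have hX1 : X ≠ ⊥ := by
        intro h
        rw [h, Subgroup.card_bot] at hXp
        exact Nat.not_prime_one hXp
      exact ⟨final_norm hE le_rfl bot_le hEUK hbotn (bot_inf_eq _) (fun k hk hk1 => bot_inf_eq _)
          hsemi X hXK hX1 (hnorm X hXK hXp),
        final_norm hE le_rfl bot_le hEUK hbotn (bot_inf_eq _) (fun k hk hk1 => bot_inf_eq _)
          hsemi E le_rfl hK1 Subgroup.le_normalizer, h3 X hXK hXp⟩
  · -- Case I : `E₃` is regular on `M_σ`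
    have hreg3 : ∀ x ∈ E3, x ≠ 1 → sigmaCore M ⊓ Subgroup.centralizer ({x} : Set G) = ⊥ := by
      intro x hx hx1
      by_contra h
      exact hcase ⟨x, hx, hx1, h⟩
    have hκτ1 : ∀ q, q ∈ kappa M → q ∈ tau1 M := by
      intro q hq
      have hqp : q.Prime := hq.1
      refine ⟨hqp, hq.2.2.1, hq.2.1, ?_, hr1κ q hq⟩
      intro hdM'
      have hqτ3 : q ∈ tau3 M := ⟨hqp, hq.2.2.1, hdM', hr1κ q hq⟩
      have hqE : q ∣ Nat.card E := by
        have h1 := hq.2.1
        rw [hcardM] at h1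
        rcases (Nat.Prime.dvd_mul hqp).mp h1 with h | h
        · exact h
        · exact absurd (Cfsg.Agent.Lib.Helper67.BG.sigmaCore_isPi M q hqp h) hq.2.2.1
      have hqE3 : q ∣ Nat.card E3 := by
        have e1 : Nat.card E3 * E3.relIndex E = Nat.card E :=
          Cfsg.Agent.Lib.Helper35.BG.card_mul_relIndex' hE3.1
        rw [← e1] at hqE
        rcases (Nat.Prime.dvd_mul hqp).mp hqE with h | h
        · exact h
        · exact absurd h (hE3.2.2 q hqp hqτ3)
      have : Fact q.Prime := ⟨hqp⟩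
      obtain ⟨z, hz⟩ := exists_prime_orderOf_dvd_card' (G := E3) q hqE3
      have hzo : orderOf (z : G) = q := by rw [Subgroup.orderOf_coe]; exact hz
      have hz1 : (z : G) ≠ 1 := by
        intro h
        rw [h, orderOf_one] at hzo
        exact hqp.one_lt.ne hzo
      exact kappa_cent_ne_bot (hr1κ q hq) hq (hE.1 (hE3.1 z.2)) hzo (hreg3 z z.2 hz1)
    have hKτ1 : ∀ q : ℕ, q.Prime → q ∣ Nat.card K → q ∈ tau1 M :=
      fun q hq hd => hκτ1 q (hK.2.1 q hq hd)
    obtain ⟨E1, hE1, hKE1⟩ :=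
      Cfsg.Agent.Lib.Helper67.BG.exists_piHallOf_ge (tau1 M) E hEsolv K hKE hKτ1
    have hsemi1 := hP0 M hM E hE E1 hE1
    -- an element of prime order of `K`
    obtain ⟨X0, p0, hp0, hX0c, hX0K⟩ := Cfsg.Agent.Lib.Helper27.BG.exists_prime_card_le hK1
    have hX0p : (Nat.card X0).Prime := by rw [hX0c]; exact hp0
    obtain ⟨k0, hk0X, hk01, hk0o, hk0z⟩ :=
      Cfsg.Agent.Lib.Helper66.BG.exists_gen_of_card_prime hX0p
    have hk0K : k0 ∈ K := hX0K hk0X
    have hκ0 : Nat.card X0 ∈ kappa M := hK.2.1 _ hX0p (Subgroup.card_dvd_of_le hX0K)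
    have hD1 : sigmaCore M ⊓ Subgroup.centralizer (E1 : Set G) ≠ ⊥ := by
      rw [← hsemi1 k0 (hKE1 hk0K) hk01]
      exact kappa_cent_ne_bot (hr1κ _ hκ0) hκ0 (hK.1 hk0K) hk0o
    have hE1κ : ∀ r : ℕ, r.Prime → r ∣ Nat.card E1 → r ∈ kappa M := by
      intro r hr hd
      have : Fact r.Prime := ⟨hr⟩
      have hrτ : r ∈ tau1 M := hE1.2.1 r hr hd
      obtain ⟨z, hz⟩ := exists_prime_orderOf_dvd_card' (G := E1) r hd
      have hzo : orderOf (z : G) = r := by rw [Subgroup.orderOf_coe]; exact hz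
      have hz1 : (z : G) ≠ 1 := by
        intro h
        rw [h, orderOf_one] at hzo
        exact hr.one_lt.ne hzo
      obtain ⟨y, hy, hy1⟩ :=
        (sigmaCore M ⊓ Subgroup.centralizer (E1 : Set G)).bot_or_exists_ne_one.resolve_left hD1
      have hyc : y ∈ sigmaCore M ⊓ Subgroup.centralizer ({(z : G)} : Set G) := by
        rw [hsemi1 z z.2 hz1]; exact hy
      exact Cfsg.Agent.Lib.Helper67.BG.mem_kappa_of_rank_one hodd M r hrτ.2.1 hrτ.2.2.2.2 (z : G)
        (hE.1 (hE1.1 z.2)) hzo y (Subgroup.mem_inf.mp hyc).1 hy1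
        ((Subgroup.mem_centralizer_iff.mp (Subgroup.mem_inf.mp hyc).2) z (Set.mem_singleton _))
    have hKeq : E1 = K := eq_of_isPiHallOf_le hK hKE1 (hE1.1.trans hE.1) hE1κ
    subst hKeq
    -- the normal Hall `τ₁'`-subgroup `U` of `E`
    have hcomm_le : ⁅E, E⁆ ≤ E :=
      Subgroup.commutator_le.mpr (fun a ha b hb =>
        E.mul_mem (E.mul_mem (E.mul_mem ha hb) (E.inv_mem ha)) (E.inv_mem hb))
    have hcomm_τ : ∀ p : ℕ, p.Prime → p ∣ Nat.card (⁅E, E⁆ : Subgroup G) → p ∈ (tau1 M)ᶜ := by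
      intro p hp hd hτ
      apply hτ.2.2.2.1
      exact hd.trans (Subgroup.card_dvd_of_le (Subgroup.commutator_mono hE.1 hE.1))
    obtain ⟨U, hU, hEU'⟩ :=
      Cfsg.Agent.Lib.Helper67.BG.exists_piHallOf_ge (tau1 M)ᶜ E hEsolv ⁅E, E⁆ hcomm_le hcomm_τ
    have hUn : E ≤ Subgroup.normalizer (U : Set G) := le_normalizer_of_commutator_le hU.1 hEU'
    have hKU : E1 ≤ Subgroup.normalizer (U : Set G) := hE1.1.trans hUn
    have hcopUK : (Nat.card U).Coprime (Nat.card E1) :=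
      Nat.coprime_of_dvd fun q hq h1 h2 => (hU.2.1 q hq h1) (hE1.2.1 q hq h2)
    have hUK : U ⊓ E1 = ⊥ := eq_bot_of_le_of_coprime hcopUK inf_le_left inf_le_right
    -- `E = U K`
    have hEUK : ∀ e ∈ E, ∃ u ∈ U, ∃ k ∈ E1, e = u * k := by
      have hsup : U ⊔ E1 = E := by
        apply Subgroup.eq_of_le_of_card_ge (sup_le hU.1 hE1.1)
        have hc1 : Nat.card (U ⊔ E1 : Subgroup G) = Nat.card U * Nat.card E1 :=
          Cfsg.Agent.Lib.Helper1.card_sup_of_normalizer_coprime U E1 hKU hcopUK.symm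
        have e1 : Nat.card U * U.relIndex E = Nat.card E :=
          Cfsg.Agent.Lib.Helper35.BG.card_mul_relIndex' hU.1
        have e2 : Nat.card E1 * E1.relIndex E = Nat.card E :=
          Cfsg.Agent.Lib.Helper35.BG.card_mul_relIndex' hE1.1
        have hcop2 : (U.relIndex E).Coprime (E1.relIndex E) := by
          apply Nat.coprime_of_dvd
          intro q hq h1 h2
          by_cases hτ : q ∈ tau1 M
          · exact hE1.2.2 q hq hτ h2
          · exact hU.2.2 q hq hτ h1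
        have hd1 : U.relIndex E ∣ Nat.card E1 := by
          apply hcop2.dvd_of_dvd_mul_right
          rw [e2, ← e1]
          exact dvd_mul_left _ _
        rw [hc1, ← e1]
        exact Nat.le_of_dvd (Nat.mul_pos Nat.card_pos Nat.card_pos) (Nat.mul_dvd_mul_left _ hd1)
      intro e he
      rw [← hsup] at he
      exact Cfsg.Agent.Lib.Helper24.BG31.exists_mul_of_mem_sup_norm hKU he
    -- regularity of `K` on `U`
    have hregU : ∀ k ∈ E1, k ≠ 1 → U ⊓ Subgroup.centralizer ({k} : Set G) = ⊥ := by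
      intro k hk hk1
      by_contra hne
      obtain ⟨R, r, hr, hRc, hRle⟩ := Cfsg.Agent.Lib.Helper27.BG.exists_prime_card_le hne
      have hRU : R ≤ U := hRle.trans inf_le_left
      have hRC : R ≤ Subgroup.centralizer ({k} : Set G) := hRle.trans inf_le_right
      have hRp : (Nat.card R).Prime := by rw [hRc]; exact hr
      have hkz : Subgroup.zpowers k ≠ ⊥ := by
        rw [Ne, Subgroup.zpowers_eq_bot]; exact hk1
      obtain ⟨P, p, hp, hPc, hPle⟩ := Cfsg.Agent.Lib.Helper27.BG.exists_prime_card_le hkz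
      have hPp : (Nat.card P).Prime := by rw [hPc]; exact hp
      have hPK : P ≤ E1 := hPle.trans (Subgroup.zpowers_le.mpr hk)
      have hpτ : p ∈ tau1 M := by
        apply hE1.2.1 p hp
        rw [← hPc]; exact Subgroup.card_dvd_of_le hPK
      have hRCP : R ≤ E ⊓ Subgroup.centralizer (P : Set G) := by
        refine le_inf (hRU.trans hU.1) ?_
        intro y hy
        have h1 : y ∈ Subgroup.centralizer ((Subgroup.zpowers k : Subgroup G) : Set G) := by
          rw [centralizer_zpowers_eq]; exact hRC hy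
        exact Subgroup.centralizer_le (SetLike.coe_subset_coe.mpr hPle) h1
      have h28 := h1428 M hM E hE p hpτ P (hPK.trans hE1.1) hPc R hRCP hRp
      obtain ⟨xP, hxP, hxP1, hxPo, hxPz⟩ :=
        Cfsg.Agent.Lib.Helper66.BG.exists_gen_of_card_prime hPp
      have hSP : sigmaCore M ⊓ Subgroup.centralizer (P : Set G) ≠ ⊥ := by
        rw [← hxPz, centralizer_zpowers_eq, hsemi1 xP (hPK hxP) hxP1]; exact hD1
      have hSR : sigmaCore M ⊓ Subgroup.centralizer (R : Set G) ≠ ⊥ := by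
        intro h
        rw [h] at h28
        exact hSP (le_bot_iff.mp h28)
      have hrU : r ∣ Nat.card U := by rw [← hRc]; exact Subgroup.card_dvd_of_le hRU
      have hrτ1 : r ∉ tau1 M := hU.2.1 r hr hrU
      have hrE : r ∣ Nat.card E := hrU.trans (Subgroup.card_dvd_of_le hU.1)
      have hrσ : r ∉ sigma M := hEσ r hr hrE
      have hr2 : PRankLE r 2 M :=
        Cfsg.Agent.Lib.Helper67.BG.pRankLE_two_of_not_mem_sigma M hαH hασ hr hrσ
      have : Fact r.Prime := ⟨hr⟩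
      obtain ⟨xR, hxR, hxR1, hxRo, hxRz⟩ :=
        Cfsg.Agent.Lib.Helper66.BG.exists_gen_of_card_prime hRp
      have hSxR : sigmaCore M ⊓ Subgroup.centralizer ({xR} : Set G) ≠ ⊥ := by
        rw [← centralizer_zpowers_eq, hxRz]; exact hSR
      by_cases hr1 : PRankLE r 1 M
      · have hrM : r ∣ Nat.card M := hrE.trans (Subgroup.card_dvd_of_le hE.1)
        have hrτ3 : r ∈ tau3 M := by
          refine ⟨hr, hrσ, ?_, hr1⟩
          by_contra hnd
          exact hrτ1 ⟨hr, hrσ, hrM, hnd, hr1⟩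
        have hE3n : E ≤ Subgroup.normalizer (E3 : Set G) := ((h1415 M hM E hE).2.2 E3 hE3).2.2
        have hRE3 : R ≤ E3 := by
          apply Cfsg.Agent.Lib.Helper27.BG.le_of_coprime_relIndex hE3.1 hE3n (hRU.trans hU.1)
          rw [hRc, Nat.Prime.coprime_iff_not_dvd hr]
          exact hE3.2.2 r hr hrτ3
        exact hSxR (hreg3 xR (hRE3 hxR) hxR1)
      · have hrτ2 : r ∈ tau2 M := ⟨hr, hrσ, hr2, hr1⟩
        obtain ⟨A, hA⟩ := Cfsg.Agent.Lib.Helper67.BG.exists_ea_sq_le_compl hE hrτ2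
        have hRA : R ≤ A := (h1418 M hM E hE r hrτ2 A hA).1.2 R (hRU.trans hU.1) hRc
        have hne' : A ⊓ Subgroup.centralizer (P : Set G) ≠ ⊥ := by
          intro h
          have h1 : R ≤ A ⊓ Subgroup.centralizer (P : Set G) :=
            le_inf hRA (hRCP.trans inf_le_right)
          rw [h] at h1
          have hR1 : R = ⊥ := le_bot_iff.mp h1
          rw [hR1, Subgroup.card_bot] at hRp
          exact Nat.not_prime_one hRp
        exact hSP (hTau12 M hM E hE r hrτ2 A hA p hpτ P (hPK.trans hE1.1) hPc hne')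
    -- `U` is abelian
    have hk0E1 : k0 ∈ E1 := hk0K
    have hUab : IsMulCommutative U := by
      apply (h1420 M hM E hE).1 U (hU.1.trans hE.1) ?_
        (fun p hp hd => hEσ p hp (hd.trans (Subgroup.card_dvd_of_le hU.1)))
      refine Cfsg.Agent.Lib.Helper25.BG.nilpotent_of_fpf_elt U k0 (hKU hk0E1) hX0p ?_ ?_
      · rw [← hk0o]; exact pow_orderOf_eq_one k0
      · intro y hy hc
        have h1 : y ∈ U ⊓ Subgroup.centralizer ({k0} : Set G) :=
          Subgroup.mem_inf.mpr ⟨hy, mem_centralizer_singleton hc⟩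
        rw [hregU k0 hk0E1 hk01] at h1
        exact Subgroup.mem_bot.mp h1
    -- `U` is a Hall subgroup of `M`
    have hUHall : IsPiHallOf {q | q.Prime ∧ q ∉ kappa M ∧ q ∉ sigma M} U M := by
      refine ⟨hU.1.trans hE.1, ?_, ?_⟩
      · intro p hp hd
        have hpE := hd.trans (Subgroup.card_dvd_of_le hU.1)
        exact ⟨hp, fun hκ => hU.2.1 p hp hd (hκτ1 p hκ), hEσ p hp hpE⟩
      · intro p hp hpπ hd
        rw [← Subgroup.relIndex_mul_relIndex U E M hU.1 hE.1,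
          Cfsg.Agent.Lib.Helper35.BG.relIndex_left_of_isComplIn hE] at hd
        rcases (Nat.Prime.dvd_mul hp).mp hd with h | h
        · by_cases hτ : p ∈ tau1 M
          · have hpE : p ∣ Nat.card E := h.trans (Subgroup.relIndex_dvd_card U E)
            have hpE1 : p ∣ Nat.card E1 := by
              have e1 : Nat.card E1 * E1.relIndex E = Nat.card E :=
                Cfsg.Agent.Lib.Helper35.BG.card_mul_relIndex' hE1.1
              rw [← e1] at hpE
              rcases (Nat.Prime.dvd_mul hp).mp hpE with h' | h'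
              · exact h'
              · exact absurd h' (hE1.2.2 p hp hτ)
            exact hpπ.2.1 (hE1κ p hp hpE1)
          · exact hU.2.2 p hp hτ h
        · exact hpπ.2.2 (Cfsg.Agent.Lib.Helper67.BG.sigmaCore_isPi M p hp h)
    refine ⟨fun k hk hk1 => hsemi1 k hk hk1, ⟨U, hUab, hUHall, hKU, hregU⟩, ?_⟩
    intro X hXK hXp
    have hX1 : X ≠ ⊥ := by
      intro h
      rw [h, Subgroup.card_bot] at hXp
      exact Nat.not_prime_one hXp
    have hcyc : IsCyclic E1 := (h1415 M hM E hE).2.1 E1 hE1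
    have hKab : ∀ a b : E1, a * b = b * a := isMulCommutative_iff.mp IsCyclic.isMulCommutative
    have hKNX : E1 ≤ Subgroup.normalizer (X : Set G) := by
      intro k hk
      apply Cfsg.Agent.Lib.Helper35.BG.centralizer_le_normalizer' X
      rw [Subgroup.mem_centralizer_iff]
      intro x hx
      exact congrArg Subtype.val (hKab ⟨x, hXK hx⟩ ⟨k, hk⟩)
    exact ⟨final_norm hE hE1.1 hU.1 hEUK hKU hUK hregU hsemi1 X hXK hX1 hKNX,
      final_norm hE hE1.1 hU.1 hEUK hKU hUK hregU hsemi1 E1 le_rfl hK1 Subgroup.le_normalizer,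
      h3 X hXK hXp⟩

end Cfsg.Agent.Lib.Helper2.BG30
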