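import Mathlib
import Cfsg.Agent.Lib.Helper2.BG.S1430Asm
import Cfsg.Agent.Lib.Helper25.BG.S1430Defs
import Cfsg.Agent.Lib.Helper85.BG.Tau1Semiprime
import Cfsg.Statements.S1427

/-!
Row 1430 (Bender-Glauberman 14.3 (a),(b)): the assembly `s1430_of` of `S1430Asm.lean`, restated
with helper25's three black boxes `Hyp1311`, `Hyp1312`, `HypOpenD` (B&G 13.11, 13.12 and clause
(3c)) as its only non-frozen hypotheses (helper2).
-/

set_option autoImplicit false

namespace Cfsg.Agent.Lib.Helper2.BG30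

open Cfsg

universe u

variable {G : Type u} [Group G] [Finite G]

/-- Row 1430 from the frozen rows 1350, 1405, 1415, 1418, 1420, 1427, 1428 and the three black
boxes `Hyp1311`, `Hyp1312`, `HypOpenD`. -/
theorem s1430_of_hyps (hG : Cfsg.IsMinSimpleOddOrder G)
    (h1350 : type_of% (@Cfsg.CfsgFrozen.S1350 G _ _ hG))
    (h1405 : type_of% (@Cfsg.CfsgFrozen.S1405 G _ _ hG))
    (h1415 : type_of% (@Cfsg.CfsgFrozen.S1415 G _ _ hG))
    (h1418 : type_of% (@Cfsg.CfsgFrozen.S1418 G _ _ hG))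
    (h1420 : type_of% (@Cfsg.CfsgFrozen.S1420 G _ _ hG))
    (h1427 : type_of% (@Cfsg.CfsgFrozen.S1427 G _ _ hG))
    (h1428 : type_of% (@Cfsg.CfsgFrozen.S1428 G _ _ hG))
    (h11 : Cfsg.Agent.Lib.Helper25.BG30.Hyp1311 G)
    (h12 : Cfsg.Agent.Lib.Helper25.BG30.Hyp1312 G)
    (hD : Cfsg.Agent.Lib.Helper25.BG30.HypOpenD G) :
    type_of% (@Cfsg.CfsgFrozen.S1430 G _ _ hG) := by
  refine s1430_of hG h1350 h1405 h1415 h1418 h1420 h1428
    (fun M hM E hE E1 hE1 =>
      Cfsg.Agent.Lib.Helper85.BG.tau1_semiprime hG h1415 h1427 h1428 M hM E hE E1 hE1)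
    ?_ ?_ ?_
  · -- case II from `Hyp1311`
    intro M hM E hE E3 hE3 hcase
    obtain ⟨x, hx, hx1, hxc⟩ := hcase
    have ho : orderOf x ≠ 1 := fun h => hx1 (orderOf_eq_one_iff.mp h)
    obtain ⟨r, hr, hrd⟩ := Nat.exists_prime_and_dvd ho
    obtain ⟨m, hm⟩ := hrd
    have hopos : 0 < orderOf x := orderOf_pos x
    have hmpos : 0 < m := by
      rcases Nat.eq_zero_or_pos m with h | h
      · rw [h, Nat.mul_zero] at hm; omega
      · exact h
    have hor : orderOf (x ^ m) = r := by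
      rw [orderOf_pow' x hmpos.ne', hm, Nat.gcd_mul_left_left, Nat.mul_div_cancel _ hmpos]
    have hRcard : Nat.card (Subgroup.zpowers (x ^ m)) = r := by
      rw [Nat.card_zpowers, hor]
    have hRE3 : Subgroup.zpowers (x ^ m) ≤ E3 :=
      (Subgroup.zpowers_le).mpr (E3.pow_mem hx m)
    have hr3 : r ∈ tau3 M := by
      apply hE3.2.1 r hr
      rw [← hRcard]
      exact Subgroup.card_dvd_of_le hRE3
    have hne : sigmaCore M ⊓ Subgroup.centralizer ((Subgroup.zpowers (x ^ m) : Subgroup G) : Set G)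
        ≠ ⊥ := by
      intro hbot
      apply hxc
      rw [eq_bot_iff, ← hbot]
      refine inf_le_inf_left _ ?_
      rw [centralizer_zpowers_eq]
      intro y hy
      rw [Subgroup.mem_centralizer_singleton_iff] at hy ⊢
      exact (Commute.pow_right hy m).eq
    obtain ⟨hτ2, hsemi, hnorm⟩ :=
      h11 M hM E hE r hr3 (Subgroup.zpowers (x ^ m)) (hRE3.trans hE3.1) hRcard hne
    exact ⟨hτ2, hnorm, hsemi⟩
  · -- `Hyp1312`
    intro M hM E hE q _ hq A hA p hp P hPE hP hne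
    exact h12 M hM E hE q hq A hA.1 hA.2.1 hA.2.2 p hp P hPE hP hne
  · -- clause (3c) from `HypOpenD`
    intro M hM p hpF hpσ hrank X hXM hX hne J hJ hN
    have hXJ : X ≤ sigmaCore J := hD M hM p hpF.out hpσ hrank X hXM hX hne J hJ hN
    apply Cfsg.Agent.Lib.Helper67.BG.sigmaCore_isPi J p hpF.out
    rw [← hX]
    exact Subgroup.card_dvd_of_le hXJ

end Cfsg.Agent.Lib.Helper2.BG30
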