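import Mathlib
import Cfsg.Agent.Lib.Helper2.BG.S1430Hyp
import Cfsg.Agent.Lib.Helper15.BG.Tau12
import Cfsg.Agent.Lib.Helper35.BG30.OpenDFor
import Cfsg.Agent.Lib.Helper83.BG.SigmaPartition
import Cfsg.Agent.Lib.Helper54.BG.AsymL4
import Cfsg.Agent.Lib.Helper34.BG.Tau13
import Cfsg.Agent.Lib.Helper97.BG.Tau13P4

/-!
Row 1430 (Bender-Glauberman 14.3 (a),(b)) from the frozen rows 1350 and 1403-1428 and the
asymmetry lemma (B&G 13.8) `AsymProp G` (helper2; boxes by helper15, helper34, helper35, helper54,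
helper83, helper97 and their package owners).
-/

set_option autoImplicit false

namespace Cfsg.Agent.Lib.Helper2.BG30

open Cfsg

universe u

variable {G : Type u} [Group G] [Finite G]

/-- Row 1430 from frozen rows and the asymmetry lemma. -/
theorem s1430_of_asym (hG : Cfsg.IsMinSimpleOddOrder G)
    (h1350 : type_of% (@Cfsg.CfsgFrozen.S1350 G _ _ hG))
    (h1403 : type_of% (@Cfsg.CfsgFrozen.S1403 G _ _ hG))
    (h1404 : type_of% (@Cfsg.CfsgFrozen.S1404 G _ _ hG))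
    (h1405 : type_of% (@Cfsg.CfsgFrozen.S1405 G _ _ hG))
    (h1407 : type_of% (@Cfsg.CfsgFrozen.S1407 G _ _ hG))
    (h1408 : type_of% (@Cfsg.CfsgFrozen.S1408 G _ _ hG))
    (h1409 : type_of% (@Cfsg.CfsgFrozen.S1409 G _ _ hG))
    (h1414 : type_of% (@Cfsg.CfsgFrozen.S1414 G _ _ hG))
    (h1415 : type_of% (@Cfsg.CfsgFrozen.S1415 G _ _ hG))
    (h1416 : type_of% (@Cfsg.CfsgFrozen.S1416 G _ _ hG))
    (h1417 : type_of% (@Cfsg.CfsgFrozen.S1417 G _ _ hG))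
    (h1418 : type_of% (@Cfsg.CfsgFrozen.S1418 G _ _ hG))
    (h1419 : type_of% (@Cfsg.CfsgFrozen.S1419 G _ _ hG))
    (h1420 : type_of% (@Cfsg.CfsgFrozen.S1420 G _ _ hG))
    (h1422 : type_of% (@Cfsg.CfsgFrozen.S1422 G _ _ hG))
    (h1423 : type_of% (@Cfsg.CfsgFrozen.S1423 G _ _ hG))
    (h1424 : type_of% (@Cfsg.CfsgFrozen.S1424 G _ _ hG))
    (h1425 : type_of% (@Cfsg.CfsgFrozen.S1425 G _ _ hG))
    (h1426 : type_of% (@Cfsg.CfsgFrozen.S1426 G _ _ hG))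
    (h1427 : type_of% (@Cfsg.CfsgFrozen.S1427 G _ _ hG))
    (h1428 : type_of% (@Cfsg.CfsgFrozen.S1428 G _ _ hG))
    (hAsym : Cfsg.Agent.Lib.Helper34.BG.AsymProp G) :
    type_of% (@Cfsg.CfsgFrozen.S1430 G _ _ hG) := by
  have hSigma : ∀ M N : Subgroup G, IsCoatom M → IsCoatom N → (sigma M ∩ sigma N).Nonempty →
      ∃ g : G, N = M.map (MulAut.conj g).toMonoidHom :=
    Cfsg.Agent.Lib.Helper83.BG.sigma_disjoint_core hG h1350 h1403 h1404 h1405 h1408 h1409 h1414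
      h1415 h1417 h1423 h1426 h1427 h1428
  have h12 : Cfsg.Agent.Lib.Helper25.BG30.Hyp1312 G :=
    Cfsg.Agent.Lib.Helper15.BG.tau12_regular hG h1350 h1403 h1408 h1414 h1415 h1417 h1418 h1419
      h1422 h1423 h1426 h1427 h1428
  have hD : Cfsg.Agent.Lib.Helper25.BG30.HypOpenD G :=
    Cfsg.Agent.Lib.Helper35.BG30.hypOpenD hG h1350 h1405 h1409 h1415 h1417 h1418 h1420 h1424
      h1425 hSigma h12
  have hL4 : Cfsg.Agent.Lib.Helper34.BG.L4Prop G := by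
    intro M Ms hM hMs hne p hp P hPM hP q Q hq hQ _ hPQ hCQ hNQ
    obtain ⟨-, -, -, -, h5, -, -, -, h9⟩ :=
      Cfsg.Agent.Lib.Helper54.BG.lemL4 hG h1403 h1405 h1407 h1414 hM hMs hne hp hPM hP hq hQ hPQ
        hCQ hNQ
    exact ⟨h5, h9⟩
  have hP3 := Cfsg.Agent.Lib.Helper34.BG.p3 hG h1350 h1403 h1404 h1405 h1414 h1415 h1416 h1417
    h1422 h1423 h1424 h1426 h1427 h1428 hL4 hAsym
  have h11 : Cfsg.Agent.Lib.Helper25.BG30.Hyp1311 G :=
    Cfsg.Agent.Lib.Helper97.BG.hyp1311_of_p3 hG h1403 h1404 h1405 h1414 h1415 h1416 h1417 h1418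
      h1420 h1423 h1427 h1428 hSigma hP3
  exact s1430_of_hyps hG h1350 h1405 h1415 h1418 h1420 h1427 h1428 h11 h12 hD

end Cfsg.Agent.Lib.Helper2.BG30
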