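import Mathlib
import Cfsg.Agent.Lib.Helper68.BG.S1428MB
import Cfsg.Agent.Lib.Helper29.BG.S1416B
import Cfsg.Agent.Lib.Helper66.BG.S1367Core
import Cfsg.Agent.Lib.Helper66.BG.S1367Util
import Cfsg.Agent.Lib.Helper46.BG.S1414Core
import Cfsg.Agent.Lib.Helper2.BG.S1430Asm
import Cfsg.Statements.S1403
import Cfsg.Statements.S1405
import Cfsg.Statements.S1407

/-!
# Bender–Glauberman 13.4/13.5 ("Lemma L4" of the S1430 campaign), items (vi) and (vii)

`M` a maximal subgroup, `P ≤ M` of prime order `p ∈ τ₁(M)`, `Q ≠ 1` a `P`-invariant Sylow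
`q`-subgroup of `M` with `C_Q(P) = 1` and `N_G(Q) ≤ M* ≠ M`, `q ∉ α(M)`, `M_α ≠ 1`.  Then
`C_{M_α}(P) ≠ 1`, every Sylow subgroup of `C_{M_α}(P)` is cyclic, and `C_{M_α}(QP) = 1`
(helper2).
-/

set_option autoImplicit false
set_option linter.style.haveILetI false

namespace Cfsg.Agent.Lib.Helper2.BG30

open Cfsg Cfsg.Agent.Lib.Helper46 Cfsg.Agent.Lib.Helper35.BG Cfsg.Agent.Lib.Helper68.BG
  Cfsg.Agent.Lib.Helper29.BG

universe u

variable {G : Type u} [Group G] [Finite G]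

omit [Finite G] in
/-- A `p`-subgroup of a `Z`-group is cyclic. -/
theorem isCyclic_of_isPGroup_le_zgroup {X S : Subgroup G} (hZ : IsZGroup X) {s : ℕ}
    (hs : s.Prime) (hS : IsPGroup s S) (hSX : S ≤ X) : IsCyclic S := by
  haveI : Fact s.Prime := ⟨hs⟩
  have hS' : IsPGroup s (S.subgroupOf X) :=
    hS.of_equiv (Subgroup.subgroupOfEquivOfLe hSX).symm
  obtain ⟨T, hT⟩ := hS'.exists_le_sylow
  haveI : IsCyclic T := hZ.isZGroup s hs T
  have h1 : IsCyclic (S.subgroupOf X) := by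
    have hinj : Function.Injective (Subgroup.inclusion hT) := Subgroup.inclusion_injective hT
    exact isCyclic_of_injective (Subgroup.inclusion hT) hinj
  exact isCyclic_of_surjective (Subgroup.subgroupOfEquivOfLe hSX).toMonoidHom
    (Subgroup.subgroupOfEquivOfLe hSX).surjective

/-- **L4 (vi), (vii)**. -/
theorem l4_cent (hG : Cfsg.IsMinSimpleOddOrder G)
    (h1403 : type_of% (@Cfsg.CfsgFrozen.S1403 G _ _ hG))
    (h1405 : type_of% (@Cfsg.CfsgFrozen.S1405 G _ _ hG))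
    (h1407 : type_of% (@Cfsg.CfsgFrozen.S1407 G _ _ hG))
    (M Ms : Subgroup G) (hM : IsCoatom M) (hMs : IsCoatom Ms) (hne : Ms ≠ M)
    (p : ℕ) (hp : p ∈ tau1 M) (P : Subgroup G) (hPM : P ≤ M) (hP : Nat.card P = p)
    (q : ℕ) (Q : Subgroup G) (hq : q.Prime) (hQ : IsSylowIn q Q M) (hQ1 : Q ≠ ⊥)
    (hPQ : P ≤ Subgroup.normalizer (Q : Set G))
    (hCQP : Q ⊓ Subgroup.centralizer (P : Set G) = ⊥)
    (hNQ : Subgroup.normalizer (Q : Set G) ≤ Ms)
    (hqα : q ∉ alpha M) (hα1 : alphaCore M ≠ ⊥) :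
    alphaCore M ⊓ Subgroup.centralizer (P : Set G) ≠ ⊥ ∧
    (∀ (s : ℕ) (S : Subgroup G), s.Prime → IsPGroup s S →
      S ≤ alphaCore M ⊓ Subgroup.centralizer (P : Set G) → IsCyclic S) ∧
    alphaCore M ⊓ Subgroup.centralizer (Q : Set G) ⊓ Subgroup.centralizer (P : Set G) = ⊥ := by
  classical
  obtain ⟨hpp, hpσ, hpM, -, hr1⟩ := hp
  haveI : Fact p.Prime := ⟨hpp⟩
  haveI : Fact q.Prime := ⟨hq⟩
  have hασ : ∀ t : ℕ, t ∈ alpha M → t ∈ sigma M := fun t ht =>
    Cfsg.Agent.Lib.Helper46.BG.mem_sigma_of_mem_alpha hG h1405 hM ht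
  have hαpi := alphaCore_isPi' M
  have hαM := alphaCore_le' M
  have hαN := alphaCore_normalizer' M
  have hQq : IsPGroup q Q := sylIn_isPGroup hQ
  have hQM : Q ≤ M := hQ.1
  -- (vi) : `C_{M_α}(P)` is a Z-group
  have hZ : IsZGroup ↥(alphaCore M ⊓ Subgroup.centralizer (P : Set G)) := by
    have hP' : IsPGroup p (P.subgroupOf M) :=
      (IsPGroup.of_card (n := 1) (by rw [hP, pow_one])).of_equiv
        (Subgroup.subgroupOfEquivOfLe hPM).symm
    obtain ⟨Phat, hPhat⟩ := hP'.exists_le_sylow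
    obtain ⟨x, hx, hxo, hxZ, -⟩ := h1407 M hM hα1 p hpM hpσ Phat
    obtain ⟨x', hx', rfl⟩ := Subgroup.mem_map.mp hx
    obtain ⟨z, hz, rfl⟩ := Subgroup.mem_map.mp hx'
    obtain ⟨x0, hx0⟩ : ∃ x0 : G, x0 = (((z : Phat) : M) : G) := ⟨_, rfl⟩
    have hxo' : orderOf x0 = p := by rw [hx0]; exact hxo
    have hxZ' : IsZGroup ↥(alphaCore M ⊓ Subgroup.centralizer ({x0} : Set G)) := by
      rw [hx0]; exact hxZ
    have hx0M : x0 ∈ M := by rw [hx0]; exact SetLike.coe_mem _
    obtain ⟨y, hyP, -, hyo, hyz⟩ :=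
      Cfsg.Agent.Lib.Helper66.BG.exists_gen_of_card_prime (X := P) (by rw [hP]; exact hpp)
    rw [hP] at hyo
    have hyPhat : (⟨y, hPM hyP⟩ : M) ∈ (Phat : Subgroup M) :=
      hPhat (Subgroup.mem_subgroupOf.mpr hyP)
    have hcomm : y * x0 = x0 * y := by
      have h1 := Subgroup.mem_center_iff.mp hz ⟨⟨y, hPM hyP⟩, hyPhat⟩
      have h2 := congrArg (fun w : (Phat : Subgroup M) => ((w : M) : G)) h1
      rw [hx0]
      simpa using h2
    have hxy : x0 ∈ Subgroup.zpowers y :=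
      Cfsg.Agent.Lib.Helper66.BG.mem_zpowers_of_pRankLE_one hpp hr1 (hPM hyP)
        hx0M hcomm hyo hxo'
    have hzP : Subgroup.zpowers x0 = P := by
      apply Subgroup.eq_of_le_of_card_ge
      · rw [Subgroup.zpowers_le, ← hyz]; exact hxy
      · rw [Nat.card_zpowers, hxo', hP]
    have e : Subgroup.centralizer ({x0} : Set G) = Subgroup.centralizer (P : Set G) := by
      rw [← centralizer_zpowers_eq, hzP]
    rw [e] at hxZ'
    exact hxZ'
  have hcyc : ∀ (s : ℕ) (S : Subgroup G), s.Prime → IsPGroup s S →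
      S ≤ alphaCore M ⊓ Subgroup.centralizer (P : Set G) → IsCyclic S :=
    fun s S hs hS hle => isCyclic_of_isPGroup_le_zgroup hZ hs hS hle
  -- `QP` acts coprimely on `M_α`
  have hAM : Q ⊔ P ≤ M := sup_le hQM hPM
  have hAN : Q ⊔ P ≤ Subgroup.normalizer (alphaCore M : Set G) := hAM.trans hαN
  have hcop : (Nat.card (Q ⊔ P : Subgroup G)).Coprime (Nat.card (alphaCore M)) := by
    have hdvd : Nat.card (Q ⊔ P : Subgroup G) ∣ Nat.card P * Nat.card Q := by
      rw [sup_comm]; exact Cfsg.Agent.Lib.Helper1.Mix.card_sup_dvd P Q hPQ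
    apply Nat.Coprime.coprime_dvd_left hdvd
    apply Nat.Coprime.mul_left
    · rw [hP, Nat.Prime.coprime_iff_not_dvd hpp]
      intro hd
      exact hpσ (hασ p (hαpi p hpp hd))
    · obtain ⟨k, hk⟩ := IsPGroup.iff_card.mp hQq
      rw [hk]
      apply Nat.Coprime.pow_left
      rw [Nat.Prime.coprime_iff_not_dvd hq]
      intro hd
      exact hqα (hαpi q hq hd)
  have hαtop : alphaCore M ≠ ⊤ := fun h => hM.1 (top_le_iff.mp (h ▸ hαM))
  have hsolv : Group.IsSolvable (alphaCore M) := isSolvable_of_ne_top hG hαtop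
  have hαHall : IsPiHallOf (alpha M) (alphaCore M) M := (h1405 M hM).1
  -- the key fact about `QP`-invariant Sylow subgroups of `M_α`
  have key : ∀ (s : ℕ), s.Prime → ∀ (R1 : Subgroup G), IsSylowIn s R1 (alphaCore M) →
      Q ⊔ P ≤ Subgroup.normalizer (R1 : Set G) → R1 ≠ ⊥ →
      R1 ⊓ Subgroup.centralizer (P : Set G) ≠ ⊥ ∧
      R1 ⊓ Subgroup.centralizer (Q : Set G) ⊓ Subgroup.centralizer (P : Set G) = ⊥ := by
    intro s hs R1 hR1syl hAS hR1ne
    haveI : Fact s.Prime := ⟨hs⟩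
    have hR1s : IsPGroup s R1 := sylIn_isPGroup hR1syl
    have hsd : s ∣ Nat.card R1 :=
      Cfsg.Agent.Lib.Helper67.BG.dvd_card_of_isPGroup_ne_bot hR1s hR1ne
    have hsα : s ∈ alpha M :=
      hαpi s hs (hsd.trans (Subgroup.card_dvd_of_le hR1syl.1))
    have hsq : s ≠ q := by rintro rfl; exact hqα hsα
    have hsp : s ≠ p := by rintro rfl; exact hpσ (hασ s hsα)
    have hR1M : IsSylowIn s R1 M := by
      apply Cfsg.Agent.Lib.Helper13.BG.isSylowIn_of_not_dvd_relIndex hR1s (hR1syl.1.trans hαM)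
      rw [← Subgroup.relIndex_mul_relIndex _ _ _ hR1syl.1 hαM]
      intro hdvd
      rcases (Nat.Prime.dvd_mul hs).mp hdvd with h | h
      · exact Cfsg.Agent.Lib.Helper24.BG31.sylIn_not_dvd_relIndex hR1syl h
      · exact hαHall.2.2 s hs hsα h
    have hnr2 : ¬ PRankLE s 2 R1 := fun h => hsα.2 (pRankLE_of_isSylowIn hR1M h)
    have hnr1 : ¬ PRankLE s 1 R1 := fun h => hnr2 (pRankLE_mono hs.pos (by norm_num) h)
    have hR1top : R1 ≠ ⊤ := fun h => hM.1 (top_le_iff.mp (h ▸ hR1M.1))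
    have hU : InUniqueMaximal R1 :=
      h1403 R1 hR1top (not_rankLE_of_not_pRankLE hnr1) (Or.inl (not_rankLE_of_not_pRankLE hnr2))
    have hR1Ms : ¬ R1 ≤ Ms := fun h =>
      hne (Cfsg.Agent.Lib.Helper61.bg_unique_eq hU hMs h hM hR1M.1)
    have hQR1 : ¬ Q ≤ Subgroup.centralizer (R1 : Set G) := by
      intro h
      apply hR1Ms
      exact ((Subgroup.le_centralizer_iff.mp h).trans (centralizer_le_normalizer' Q)).trans hNQ
    have hQs : (Nat.card Q).Coprime s := by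
      obtain ⟨k, hk⟩ := IsPGroup.iff_card.mp hQq
      rw [hk]
      exact Nat.Coprime.pow_left _ ((Nat.coprime_primes hq hs).mpr (Ne.symm hsq))
    refine ⟨?_, ?_⟩
    · obtain ⟨u, hu, hunc⟩ := frob_F0 R1 Q P hR1s (le_sup_left.trans hAS)
        (le_sup_right.trans hAS) hQs hP hpp (Ne.symm hsp) hPQ hCQP hQR1
      intro hbot
      rw [hbot, Subgroup.mem_bot] at hu
      exact hunc (fun x _ => by rw [hu, mul_one, one_mul])
    · by_contra hfix
      exact hQR1 (frob_F R1 Q P hR1s (le_sup_left.trans hAS) (le_sup_right.trans hAS) hQs hP hpp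
        (Ne.symm hsp) hPQ hCQP
        (hcyc s _ hs (hR1s.to_le inf_le_left) (inf_le_inf_right _ hR1syl.1)) hfix)
  refine ⟨?_, hcyc, ?_⟩
  · -- `C_{M_α}(P) ≠ 1`
    have hcard1 : Nat.card (alphaCore M) ≠ 1 := fun h => hα1 (Subgroup.card_eq_one.mp h)
    obtain ⟨s, hs, hsd⟩ := Nat.exists_prime_and_dvd hcard1
    haveI : Fact s.Prime := ⟨hs⟩
    obtain ⟨S, -, hAS⟩ := Cfsg.Agent.S0025.result (Q ⊔ P) (alphaCore M) hAN hcop (Or.inr hsolv) s ⊥
      bot_le IsPGroup.of_bot (by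
        intro x _
        rw [Subgroup.mem_normalizer_iff]
        intro y
        simp [Subgroup.mem_bot])
    have hS : IsSylowIn s ((S : Subgroup (alphaCore M)).map (alphaCore M).subtype) (alphaCore M) :=
      isSylowIn_of_sylow S
    have hSne : (S : Subgroup (alphaCore M)).map (alphaCore M).subtype ≠ ⊥ := by
      intro h
      have h2 := hS.2
      rw [h, Subgroup.card_bot] at h2
      have h3 : (Nat.card (alphaCore M)).factorization s = 0 := by
        by_contra h0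
        have : 1 < s ^ (Nat.card (alphaCore M)).factorization s :=
          Nat.one_lt_pow h0 hs.one_lt
        omega
      have h4 := (Nat.factorization_eq_zero_iff _ _).mp h3
      rcases h4 with h4 | h4 | h4
      · exact h4 hs
      · exact h4 hsd
      · exact Nat.card_pos.ne' h4
    intro hbot
    apply (key s hs _ hS hAS hSne).1
    rw [eq_bot_iff, ← hbot]
    exact inf_le_inf_right _ hS.1
  · -- `C_{M_α}(QP) = 1`
    by_contra hcon
    obtain ⟨⟨y, hy⟩, hy1⟩ := (Subgroup.ne_bot_iff_exists_ne_one).mp hcon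
    have hy1' : y ≠ 1 := fun h => hy1 (Subtype.ext h)
    obtain ⟨⟨hyα, hyQ⟩, hyP⟩ := hy
    have ho : orderOf y ≠ 1 := fun h => hy1' (orderOf_eq_one_iff.mp h)
    obtain ⟨s, hs, hsd⟩ := Nat.exists_prime_and_dvd ho
    haveI : Fact s.Prime := ⟨hs⟩
    obtain ⟨m, hm⟩ := hsd
    have hmpos : 0 < m := by
      rcases Nat.eq_zero_or_pos m with h | h
      · rw [h, Nat.mul_zero] at hm
        exact absurd hm (orderOf_pos y).ne'
      · exact h
    have hor : orderOf (y ^ m) = s := by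
      rw [orderOf_pow' y hmpos.ne', hm, Nat.gcd_mul_left_left, Nat.mul_div_cancel _ hmpos]
    have hUs : IsPGroup s (Subgroup.zpowers (y ^ m)) :=
      IsPGroup.of_card (n := 1) (by rw [Nat.card_zpowers, hor, pow_one])
    have hUα : Subgroup.zpowers (y ^ m) ≤ alphaCore M :=
      Subgroup.zpowers_le.mpr ((alphaCore M).pow_mem hyα m)
    have hUQ : Subgroup.zpowers (y ^ m) ≤ Subgroup.centralizer (Q : Set G) :=
      Subgroup.zpowers_le.mpr ((Subgroup.centralizer (Q : Set G)).pow_mem hyQ m)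
    have hUP : Subgroup.zpowers (y ^ m) ≤ Subgroup.centralizer (P : Set G) :=
      Subgroup.zpowers_le.mpr ((Subgroup.centralizer (P : Set G)).pow_mem hyP m)
    have hUA : Q ⊔ P ≤ Subgroup.normalizer ((Subgroup.zpowers (y ^ m) : Subgroup G) : Set G) := by
      refine le_trans ?_ (centralizer_le_normalizer' (Subgroup.zpowers (y ^ m)))
      refine sup_le ?_ ?_
      · exact Subgroup.le_centralizer_iff.mp hUQ
      · exact Subgroup.le_centralizer_iff.mp hUP
    obtain ⟨S, hUS, hAS⟩ := Cfsg.Agent.S0025.result (Q ⊔ P) (alphaCore M) hAN hcop (Or.inr hsolv) s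
      (Subgroup.zpowers (y ^ m)) hUα hUs hUA
    have hS : IsSylowIn s ((S : Subgroup (alphaCore M)).map (alphaCore M).subtype) (alphaCore M) :=
      isSylowIn_of_sylow S
    have hym : y ^ m ≠ 1 := by
      intro h
      rw [h, orderOf_one] at hor
      exact hs.one_lt.ne hor
    have hSne : (S : Subgroup (alphaCore M)).map (alphaCore M).subtype ≠ ⊥ := by
      intro h
      rw [h] at hUS
      exact hym (Subgroup.mem_bot.mp (hUS (Subgroup.mem_zpowers _)))
    have h2 := (key s hs _ hS hAS hSne).2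
    have h3 : y ^ m ∈ (S : Subgroup (alphaCore M)).map (alphaCore M).subtype ⊓
        Subgroup.centralizer (Q : Set G) ⊓ Subgroup.centralizer (P : Set G) :=
      ⟨⟨hUS (Subgroup.mem_zpowers _), hUQ (Subgroup.mem_zpowers _)⟩, hUP (Subgroup.mem_zpowers _)⟩
    rw [h2, Subgroup.mem_bot] at h3
    exact hym h3

end Cfsg.Agent.Lib.Helper2.BG30
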