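import Mathlib
import Cfsg.Agent.Lib.Helper2.BG.Partner
import Cfsg.Statements.S1351
import Cfsg.Statements.S1352
import Cfsg.Statements.S1434
import Cfsg.Statements.S1369

/-!
# S1369 (B–G Theorem 14.7(f),(g)) from the BG47 packages and S1351, S1352, S1378, S1434
-/

set_option autoImplicit false
set_option linter.unusedVariables false
set_option linter.unusedSectionVars false

namespace Cfsg.Agent.Lib.Helper2.BG47

open Cfsg

universe u

variable {G : Type u} [Group G] [Finite G]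

/-- If `U = 1` in the decomposition `M = K U M_σ` then every prime divisor of `|M|` is in
`σ(M) ∪ κ(M)`. -/
theorem isP1_of_decomp_bot {M K : Subgroup G} (h : IsSigmaDecomposition M K ⊥) : IsP1 M := by
  intro q hq hdvd hnσ
  have hle : M ≤ K ⊔ sigmaCore M := by
    intro m hm
    obtain ⟨u, hu, b, hb, rfl⟩ := h.compl.2.2.2 m hm
    rw [Subgroup.mem_bot.mp hu, one_mul]; exact hb
  have h1 : Nat.card M ∣ Nat.card (K ⊔ sigmaCore M : Subgroup G) := Subgroup.card_dvd_of_le hle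
  have h2 : Nat.card (K ⊔ sigmaCore M : Subgroup G) ∣ Nat.card K * Nat.card (sigmaCore M) :=
    Cfsg.Agent.Lib.Helper27.BG.card_sup_dvd_mul
      (h.hall.1.trans (Cfsg.Agent.Lib.Helper67.BG.sigmaCore_normalizer M))
  rcases (Nat.Prime.dvd_mul hq).mp (hdvd.trans (h1.trans h2)) with h3 | h3
  · exact h.hall.2.1 q hq h3
  · exact absurd (Cfsg.Agent.Lib.Helper67.BG.sigmaCore_isPi M q hq h3) hnσ

/-- Two subsets of `G`, each with more than `|G|/2` elements, meet. -/
theorem exists_mem_of_two_lt {A B : Set G} (hA : Nat.card G < 2 * A.ncard)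
    (hB : Nat.card G < 2 * B.ncard) : ∃ a, a ∈ A ∧ a ∈ B := by
  by_contra hno
  have hd : Disjoint A B := by
    rw [Set.disjoint_left]
    intro a ha hb
    exact hno ⟨a, ha, hb⟩
  have h1 : (A ∪ B).ncard = A.ncard + B.ncard := Set.ncard_union_eq hd
  have h2 : (A ∪ B).ncard ≤ Nat.card G := Set.ncard_le_card _
  omega

/-- An element of `Z = KL · C_{L_σ}(KL)` outside `KL ∪ C_{L_σ}(KL)` is a product of non-identity
elements. -/
theorem good_exists_mul_ne {Z L KL : Subgroup G} (h : Good Z L KL) {z : G} (hz : z ∈ Z)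
    (hzK : z ∉ KL) (hzC : z ∉ kstar L KL) :
    ∃ k ∈ KL, k ≠ 1 ∧ ∃ c ∈ kstar L KL, c ≠ 1 ∧ z = k * c := by
  obtain ⟨k, hk, c, hc, rfl⟩ := good_exists_mul h hz
  refine ⟨k, hk, ?_, c, hc, ?_, rfl⟩
  · intro h1
    apply hzC
    rw [h1, one_mul]; exact hc
  · intro h1
    apply hzK
    rw [h1, mul_one]; exact hk

/-- S1369 from `PartnerExists`, package UNIQ and the frozen statements. -/
theorem s1369_of (hPE : PartnerExists.{u}) (hUniq : LemUniq.{u})
    {G : Type u} [Group G] [Finite G] (hG : Cfsg.IsMinSimpleOddOrder G)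
    (h1350 : type_of% (@Cfsg.CfsgFrozen.S1350 G _ _ hG))
    (h1351 : type_of% (@Cfsg.CfsgFrozen.S1351 G _ _ hG))
    (h1352 : type_of% (@Cfsg.CfsgFrozen.S1352 G _ _ hG))
    (h1375 : type_of% (@Cfsg.CfsgFrozen.S1375 G _ _ hG))
    (h1377 : type_of% (@Cfsg.CfsgFrozen.S1377 G _ _ hG))
    (h1378 : type_of% (@Cfsg.CfsgFrozen.S1378 G _ _ hG))
    (h1429 : type_of% (@Cfsg.CfsgFrozen.S1429 G _ _ hG))
    (h1430 : type_of% (@Cfsg.CfsgFrozen.S1430 G _ _ hG))
    (h1431 : type_of% (@Cfsg.CfsgFrozen.S1431 G _ _ hG))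
    (h1432 : type_of% (@Cfsg.CfsgFrozen.S1432 G _ _ hG))
    (h1433 : type_of% (@Cfsg.CfsgFrozen.S1433 G _ _ hG))
    (h1434 : type_of% (@Cfsg.CfsgFrozen.S1434 G _ _ hG)) :
    type_of% (@Cfsg.CfsgFrozen.S1369 G _ _ hG) := by
  intro M hM K U hKU hK1 Mstar hMstar hKst hKstH
  have hKst' : K = sigmaCore Mstar ⊓ Subgroup.centralizer ((kstar M K : Subgroup G) : Set G) :=
    hKst
  have hKstH' : IsPiHallOf (kappa Mstar) (kstar M K) Mstar := hKstH
  refine ⟨?_, ?_⟩
  · obtain ⟨M', h1, h2, h3, h4⟩ :=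
      hPE hG h1350 h1375 h1377 h1378 h1429 h1430 h1431 h1432 h1433 M hM K hKU.hall hK1
    have hMeq : M' = Mstar :=
      hUniq hG h1350 h1430 h1431 M hM K hKU.hall hK1 M' Mstar h1 hMstar h3 h2 hKst' hKstH'
    rw [hMeq] at h4
    rcases h4 with h4 | h4
    · left
      intro hU
      apply h4
      rw [hU] at hKU
      exact isP1_of_decomp_bot hKU
    · right
      intro Ustar hdec hU
      apply h4
      rw [hU] at hdec
      exact isP1_of_decomp_bot hdec
  · intro H hH hκ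
    obtain ⟨⟨KH, hKH⟩, hcyc⟩ := h1351 H hH
    have hKHc : IsCyclic KH := hcyc KH hKH
    have hKH1 : KH ≠ ⊥ := by
      obtain ⟨q, hq⟩ := hκ
      intro h
      apply hKH.2.2 q hq.1 hq
      rw [h, Subgroup.relIndex_bot_left]
      exact hq.2.1
    obtain ⟨⟨UH, hUH⟩, -⟩ := h1352 H hH KH hKHc hKH
    obtain ⟨Hs, hHs, hHall, hKHeq, -⟩ :=
      hPE hG h1350 h1375 h1377 h1378 h1429 h1430 h1431 h1432 h1433 H hH KH hKH hKH1
    have hA := h1434 M hM K U hKU hK1 Mstar hMstar hKst hKstH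
    have hB := h1434 H hH KH UH hUH hKH1 Hs hHs hKHeq hHall
    obtain ⟨a, haA, haB⟩ := exists_mem_of_two_lt hA.2.2.2.2.2 hB.2.2.2.2.2
    obtain ⟨g, z, ⟨hzZ, hzn⟩, rfl⟩ := haA
    obtain ⟨g', z', ⟨hz'Z, hz'n⟩, heq⟩ := haB
    have hgood : Good (K ⊔ kstar M K) M K := ⟨hM, hKU.hall, hK1, rfl⟩
    have hgoodH : Good (KH ⊔ kstar H KH) H KH := ⟨hH, hKH, hKH1, rfl⟩
    -- centralizers
    have hcz : Subgroup.centralizer ({z} : Set G) = K ⊔ kstar M K := by
      obtain ⟨k, hk, hk1, c, hc, hc1, rfl⟩ := good_exists_mul_ne hgood hzZ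
        (fun h => hzn (Or.inl h)) (fun h => hzn (Or.inr h))
      exact (hA.2.2.1 k hk hk1 c hc hc1).2.2
    have hcz' : Subgroup.centralizer ({z'} : Set G) = KH ⊔ kstar H KH := by
      obtain ⟨k, hk, hk1, c, hc, hc1, rfl⟩ := good_exists_mul_ne hgoodH hz'Z
        (fun h => hz'n (Or.inl h)) (fun h => hz'n (Or.inr h))
      exact (hB.2.2.1 k hk hk1 c hc hc1).2.2
    have hcard : Nat.card (KH ⊔ kstar H KH : Subgroup G) = Nat.card (K ⊔ kstar M K : Subgroup G) := by
      have e1 : Nat.card (Subgroup.centralizer ({g * z * g⁻¹} : Set G)) =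
          Nat.card (Subgroup.centralizer ({z} : Set G)) := by
        rw [Cfsg.Agent.Lib.Helper76.BG.centralizer_singleton_conj,
          Cfsg.Agent.Lib.Helper35.BG.card_map_conj]
      have e2 : Nat.card (Subgroup.centralizer ({g' * z' * g'⁻¹} : Set G)) =
          Nat.card (Subgroup.centralizer ({z'} : Set G)) := by
        rw [Cfsg.Agent.Lib.Helper76.BG.centralizer_singleton_conj,
          Cfsg.Agent.Lib.Helper35.BG.card_map_conj]
      rw [← hcz, ← hcz', ← e1, ← e2, heq]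
    have hKsH1 : kstar H KH ≠ ⊥ := by
      intro h
      apply hz'n
      left
      have hz'Z' : z' ∈ KH ⊔ kstar H KH := hz'Z
      rw [h, sup_bot_eq] at hz'Z'
      exact hz'Z'
    have hc1 : Nat.card (kstar H KH) ≠ 1 := fun h => hKsH1 (Subgroup.card_eq_one.mp h)
    obtain ⟨q, hq, hqd⟩ := Nat.exists_prime_and_dvd hc1
    have hqH : q ∈ sigma H := Cfsg.Agent.Lib.Helper67.BG.sigmaCore_isPi H q hq
      (hqd.trans (Subgroup.card_dvd_of_le (kstar_le_sigmaCore H KH)))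
    have hqZ : q ∣ Nat.card K * Nat.card (kstar M K) := by
      rw [← good_card hgood, ← hcard]
      exact hqd.trans (Subgroup.card_dvd_of_le le_sup_right)
    rcases (Nat.Prime.dvd_mul hq).mp hqZ with h3 | h3
    · have hKle : K ≤ sigmaCore Mstar := by
        rw [hKst']; exact inf_le_left
      have hqMs : q ∈ sigma Mstar := Cfsg.Agent.Lib.Helper67.BG.sigmaCore_isPi Mstar q hq
        (h3.trans (Subgroup.card_dvd_of_le hKle))
      obtain ⟨t, ht⟩ := h1378.2 Mstar H hMstar hH ⟨q, hqMs, hqH⟩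
      exact ⟨t, Or.inr ht⟩
    · have hqM : q ∈ sigma M := Cfsg.Agent.Lib.Helper67.BG.sigmaCore_isPi M q hq
        (h3.trans (Subgroup.card_dvd_of_le (kstar_le_sigmaCore M K)))
      obtain ⟨t, ht⟩ := h1378.2 M H hM hH ⟨q, hqM, hqH⟩
      exact ⟨t, Or.inl ht⟩

end Cfsg.Agent.Lib.Helper2.BG47
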