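import Mathlib
import Cfsg.Agent.Lib.Helper2.BG.Partner
import Cfsg.Agent.Lib.Helper2.BG.S1366Core
import Cfsg.Agent.Lib.Helper2.BG.S1369Core
import Cfsg.Agent.Lib.Helper77.BG.PartnerCount
import Cfsg.Agent.Lib.Helper77.BG.PartnerDT
import Cfsg.Agent.Lib.Helper80.BG.PartnerT2
import Cfsg.Agent.Lib.Helper94.BG.PartnerPair
import Cfsg.Agent.Lib.Helper49.BG.PartnerTI

/-!
# Bender–Glauberman Theorem 14.7: closed forms

`partner_exists : PartnerExists` (all BG47 packages discharged), and the cores of S1366 and S1369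
with only frozen statements as hypotheses.
-/

set_option autoImplicit false
set_option linter.unusedVariables false

namespace Cfsg.Agent.Lib.Helper2.BG47

open Cfsg

universe u

/-- **B–G Theorem 14.7**: existence of the partner `M*` (and: `M`, `M*` are not both of type P1),
from the frozen statements S1350, S1375, S1377, S1378, S1429–S1433. -/
theorem partner_exists : PartnerExists.{u} :=
  partner_exists_of Cfsg.Agent.Lib.Helper77.BG.lemCount Cfsg.Agent.Lib.Helper80.BG.lemKstar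
    lemT2_closed Cfsg.Agent.Lib.Helper94.BG.lemPair Cfsg.Agent.Lib.Helper49.BG.lemTI
    Cfsg.Agent.Lib.Helper77.BG.lemDT

/-- S1366 from the frozen statements S1350, S1375, S1377, S1378, S1429–S1433. -/
theorem s1366_core {G : Type u} [Group G] [Finite G] (hG : Cfsg.IsMinSimpleOddOrder G)
    (h1350 : type_of% (@Cfsg.CfsgFrozen.S1350 G _ _ hG))
    (h1375 : type_of% (@Cfsg.CfsgFrozen.S1375 G _ _ hG))
    (h1377 : type_of% (@Cfsg.CfsgFrozen.S1377 G _ _ hG))
    (h1378 : type_of% (@Cfsg.CfsgFrozen.S1378 G _ _ hG))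
    (h1429 : type_of% (@Cfsg.CfsgFrozen.S1429 G _ _ hG))
    (h1430 : type_of% (@Cfsg.CfsgFrozen.S1430 G _ _ hG))
    (h1431 : type_of% (@Cfsg.CfsgFrozen.S1431 G _ _ hG))
    (h1432 : type_of% (@Cfsg.CfsgFrozen.S1432 G _ _ hG))
    (h1433 : type_of% (@Cfsg.CfsgFrozen.S1433 G _ _ hG)) :
    type_of% (@Cfsg.CfsgFrozen.S1366 G _ _ hG) :=
  s1366_of partner_exists Cfsg.Agent.Lib.Helper49.BG.lemUniq hG h1350 h1375 h1377 h1378 h1429
    h1430 h1431 h1432 h1433

/-- S1369 from the frozen statements S1350, S1351, S1352, S1375, S1377, S1378, S1429–S1434. -/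
theorem s1369_core {G : Type u} [Group G] [Finite G] (hG : Cfsg.IsMinSimpleOddOrder G)
    (h1350 : type_of% (@Cfsg.CfsgFrozen.S1350 G _ _ hG))
    (h1351 : type_of% (@Cfsg.CfsgFrozen.S1351 G _ _ hG))
    (h1352 : type_of% (@Cfsg.CfsgFrozen.S1352 G _ _ hG))
    (h1375 : type_of% (@Cfsg.CfsgFrozen.S1375 G _ _ hG))
    (h1377 : type_of% (@Cfsg.CfsgFrozen.S1377 G _ _ hG))
    (h1378 : type_of% (@Cfsg.CfsgFrozen.S1378 G _ _ hG))
    (h1429 : type_of% (@Cfsg.CfsgFrozen.S1429 G _ _ hG))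
    (h1430 : type_of% (@Cfsg.CfsgFrozen.S1430 G _ _ hG))
    (h1431 : type_of% (@Cfsg.CfsgFrozen.S1431 G _ _ hG))
    (h1432 : type_of% (@Cfsg.CfsgFrozen.S1432 G _ _ hG))
    (h1433 : type_of% (@Cfsg.CfsgFrozen.S1433 G _ _ hG))
    (h1434 : type_of% (@Cfsg.CfsgFrozen.S1434 G _ _ hG)) :
    type_of% (@Cfsg.CfsgFrozen.S1369 G _ _ hG) :=
  s1369_of partner_exists Cfsg.Agent.Lib.Helper49.BG.lemUniq hG h1350 h1351 h1352 h1375 h1377
    h1378 h1429 h1430 h1431 h1432 h1433 h1434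

end Cfsg.Agent.Lib.Helper2.BG47
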