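import Mathlib
import Cfsg.Statements.S1404
import Cfsg.Statements.S1353
import Cfsg.Agent.S1459
import Cfsg.Agent.Lib.Helper66.BG.S1350Core
import Cfsg.Agent.Lib.Helper47.BG.S1352Core
import Cfsg.Agent.Lib.Helper35.BG.Basic
import Cfsg.Agent.Lib.Helper1.Commutator
import Cfsg.Agent.Lib.Helper23.Compl
import Cfsg.Agent.Lib.Helper51.FusCtl
import Cfsg.Agent.Lib.Helper32.Tight
import Cfsg.Agent.Lib.Helper37.SzTori

/-!
Bender–Glauberman campaign: statement S1365 (`K ≠ 1`: `M' = U M_σ` and `C_{M_σ}(K) ≤ M''`), derived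
from BG 10.1 (S1404, used only through `M_σ ≤ M'`) and S1353 (`C_U(k) = 1` for `k ∈ K^#`), both
taken as hypotheses, plus the landed S1459.
-/

set_option autoImplicit false

namespace Cfsg.Agent.Lib.Helper2.BG

open Cfsg
open scoped commutatorElement

/-- Statement S1365 from S1404 and S1353. -/
theorem s1365_core {G : Type*} [Group G] [Finite G] (hG : Cfsg.IsMinSimpleOddOrder G)
    (h1404 : type_of% (@Cfsg.CfsgFrozen.S1404 G _ _ hG))
    (h1353 : type_of% (@Cfsg.CfsgFrozen.S1353 G _ _ hG))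
    (M : Subgroup G) (hM : IsCoatom M) (K U : Subgroup G) (hKU : Cfsg.IsSigmaDecomposition M K U) (hK1 : K ≠ ⊥) :
    ⁅M, M⁆ = U ⊔ Cfsg.sigmaCore M ∧ (Cfsg.sigmaCore M ⊓ Subgroup.centralizer (K : Set G)) ≤ ⁅⁅M, M⁆, ⁅M, M⁆⁆ := by
  have hcompl0 := hKU.compl
  have hSder0 := Cfsg.Agent.Lib.Helper66.BG.sigmaCore_le_commutator hG h1404 M hM
  have hNnorm0 := Cfsg.Agent.Lib.Helper47.BG.sigmaDecomposition_normal M K U hKU
  have hSM0 := Cfsg.Agent.Lib.Helper67.BG.sigmaCore_le M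
  have hMS0 := Cfsg.Agent.Lib.Helper67.BG.sigmaCore_normalizer M
  have hSσ0 := Cfsg.Agent.Lib.Helper67.BG.sigmaCore_isPi M
  obtain ⟨S, hSdef⟩ : ∃ S : Subgroup G, S = Cfsg.sigmaCore M := ⟨_, rfl⟩
  rw [← hSdef] at hcompl0 hSder0 hNnorm0 hSM0 hMS0 hSσ0 ⊢
  have hKM : K ≤ M := hKU.hall.1
  have hUM : U ≤ M := hcompl0.1
  have hinf : U ⊓ (K ⊔ S) = ⊥ := hcompl0.2.2.1
  have hMtop : M ≠ ⊤ := hM.1
  have hcopKS : (Nat.card K).Coprime (Nat.card S) := by
    rw [Nat.coprime_iff_gcd_eq_one]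
    by_contra hne
    obtain ⟨p, hp, hdvd⟩ := Nat.exists_prime_and_dvd hne
    have h1 : p ∈ Cfsg.kappa M := hKU.hall.2.1 p hp (hdvd.trans (Nat.gcd_dvd_left _ _))
    have h2 : p ∈ Cfsg.sigma M := hSσ0 p hp (hdvd.trans (Nat.gcd_dvd_right _ _))
    exact h1.2.2.1 h2
  have hcardSK : Nat.card (S ⊔ K : Subgroup G) = Nat.card S * Nat.card K :=
    Cfsg.Agent.Lib.Helper1.card_sup_of_normalizer_coprime S K (hKM.trans hMS0) hcopKS
  have hcardM : Nat.card M = Nat.card U * Nat.card (K ⊔ S : Subgroup G) :=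
    Cfsg.Agent.Lib.Helper23.card_of_isComplIn hcompl0
  have hcardM' : Nat.card ↥M = Nat.card U * Nat.card S * Nat.card K := by
    rw [hcardM, sup_comm, hcardSK]; ring
  have hcopKU : (Nat.card K).Coprime (Nat.card U) := by
    rw [Nat.coprime_iff_gcd_eq_one]
    by_contra hne
    obtain ⟨p, hp, hdvd⟩ := Nat.exists_prime_and_dvd hne
    have hpK : p ∣ Nat.card K := hdvd.trans (Nat.gcd_dvd_left _ _)
    have hpU : p ∣ Nat.card U := hdvd.trans (Nat.gcd_dvd_right _ _)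
    have hκ : p ∈ Cfsg.kappa M := hKU.hall.2.1 p hp hpK
    apply hKU.hall.2.2 p hp hκ
    have h1 : Nat.card K * K.relIndex M = Nat.card M := by
      have hc : Nat.card (K.subgroupOf M) = Nat.card K :=
        Nat.card_congr (Subgroup.subgroupOfEquivOfLe hKM).toEquiv
      rw [← hc]; exact (K.subgroupOf M).card_mul_index
    have h2 : Nat.card M = Nat.card K * (Nat.card U * Nat.card S) := by
      rw [hcardM']; ring
    have h3 : K.relIndex M = Nat.card U * Nat.card S :=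
      Nat.eq_of_mul_eq_mul_left Nat.card_pos (h1.trans h2)
    rw [h3]; exact Dvd.dvd.mul_right hpU _
  have hUK : ⁅U, K⁆ = U := by
    have h := Cfsg.Agent.Lib.Helper1.coprime_commutator_sup_centralizer K U hKU.normal hcopKU
      (Or.inl (Cfsg.Agent.Lib.Helper35.BG.isSolvable_of_ne_top hG (ne_top_of_le_ne_top hMtop hKM)))
    have hbot : U ⊓ Subgroup.centralizer (K : Set G) = ⊥ := by
      obtain ⟨⟨k, hk⟩, hk1'⟩ := Subgroup.ne_bot_iff_exists_ne_one.mp hK1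
      have hk1 : k ≠ 1 := fun h => hk1' (Subtype.ext h)
      rw [eq_bot_iff]
      intro x hx
      have hx' : x ∈ U ⊓ Subgroup.centralizer ({k} : Set G) :=
        ⟨hx.1, Subgroup.centralizer_le (Set.singleton_subset_iff.mpr hk) hx.2⟩
      rw [h1353 M hM K U hKU k hk hk1] at hx'
      exact hx'
    rw [hbot, sup_bot_eq] at h
    exact h
  have hUder : U ≤ ⁅M, M⁆ := by
    rw [← hUK]; exact Subgroup.commutator_mono hUM hKM
  have hKcomm : ∀ a ∈ K, ∀ b ∈ K, a * b = b * a := fun a ha b hb =>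
    Cfsg.Agent.Lib.Helper37.cyc_sub_comm K hKU.cyclic a b ha hb
  have hdecomp : ∀ x ∈ M, ∃ n ∈ U ⊔ S, ∃ k ∈ K, x = n * k := by
    intro x hx
    obtain ⟨a, ha, b, hb, rfl⟩ := hcompl0.2.2.2 x hx
    obtain ⟨k, hk, s, hs, rfl⟩ := Cfsg.Agent.Lib.Helper51.exists_mul_of_mem_sup (hKM.trans hMS0) hb
    refine ⟨a * (k * s * k⁻¹), ?_, k, hk, by group⟩
    refine Subgroup.mul_mem _ (Subgroup.mem_sup_left ha) (Subgroup.mem_sup_right ?_)
    exact (Subgroup.mem_normalizer_iff.mp (hMS0 (hKM hk)) s).mp hs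
  have hderle : ⁅M, M⁆ ≤ U ⊔ S := by
    rw [Subgroup.commutator_le]
    intro x hx y hy
    obtain ⟨n₁, hn₁, k₁, hk₁, rfl⟩ := hdecomp x hx
    obtain ⟨n₂, hn₂, k₂, hk₂, rfl⟩ := hdecomp y hy
    have hc : k₂ * k₁⁻¹ = k₁⁻¹ * k₂ := hKcomm k₂ hk₂ k₁⁻¹ (K.inv_mem hk₁)
    have e : ⁅n₁ * k₁, n₂ * k₂⁆ = n₁ * (k₁ * n₂ * k₁⁻¹) * (k₂ * n₁⁻¹ * k₂⁻¹) * n₂⁻¹ := by
      rw [commutatorElement_def]
      calc (n₁ * k₁) * (n₂ * k₂) * (n₁ * k₁)⁻¹ * (n₂ * k₂)⁻¹
          = n₁ * k₁ * n₂ * (k₂ * k₁⁻¹) * n₁⁻¹ * k₂⁻¹ * n₂⁻¹ := by group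
        _ = n₁ * k₁ * n₂ * (k₁⁻¹ * k₂) * n₁⁻¹ * k₂⁻¹ * n₂⁻¹ := by rw [hc]
        _ = n₁ * (k₁ * n₂ * k₁⁻¹) * (k₂ * n₁⁻¹ * k₂⁻¹) * n₂⁻¹ := by group
    rw [e]
    have hconj : ∀ k ∈ K, ∀ n ∈ U ⊔ S, k * n * k⁻¹ ∈ U ⊔ S := fun k hk n hn =>
      (Subgroup.mem_normalizer_iff.mp (hNnorm0 (hKM hk)) n).mp hn
    exact Subgroup.mul_mem _ (Subgroup.mul_mem _ (Subgroup.mul_mem _ hn₁ (hconj k₁ hk₁ n₂ hn₂))
      (hconj k₂ hk₂ _ (Subgroup.inv_mem _ hn₁))) (Subgroup.inv_mem _ hn₂)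
  have hder : ⁅M, M⁆ = U ⊔ S := le_antisymm hderle (sup_le hUder hSder0)
  refine ⟨hder, ?_⟩
  have hsolv : Group.IsSolvable ↥M := Cfsg.Agent.Lib.Helper35.BG.isSolvable_of_ne_top hG hMtop
  have hUS : U ⊓ S = ⊥ := by
    rw [eq_bot_iff]
    exact (inf_le_inf_left U le_sup_right).trans hinf.le
  have hcardUS : Nat.card (U ⊔ S : Subgroup G) = Nat.card U * Nat.card S := by
    rw [sup_comm]
    have h := Cfsg.Agent.Lib.Helper32.card_sup_of_le_normalizer (A := S) (T := U) (hUM.trans hMS0)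
      (by rw [inf_comm]; exact hUS)
    rw [h]; ring
  have hcardH : Nat.card (commutator ↥M) = Nat.card U * Nat.card S := by
    rw [← hcardUS, ← hder, ← Subgroup.map_subtype_commutator,
      Subgroup.card_map_of_injective M.subtype_injective]
  have hcardKc : Nat.card (K.subgroupOf M) = Nat.card K :=
    Nat.card_congr (Subgroup.subgroupOfEquivOfLe hKM).toEquiv
  have hcopHK : (Nat.card (commutator ↥M)).Coprime (Nat.card (K.subgroupOf M)) := by
    rw [hcardH, hcardKc]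
    exact Nat.Coprime.mul_left hcopKU.symm hcopKS.symm
  have hcompl' : Subgroup.IsComplement' (commutator ↥M) (K.subgroupOf M) :=
    Subgroup.isComplement'_of_coprime (by rw [hcardH, hcardKc, hcardM']) hcopHK
  have hidx : (commutator ↥M).index = Nat.card K := by
    have h1 := (commutator ↥M).card_mul_index
    rw [hcardH, hcardM'] at h1
    exact Nat.eq_of_mul_eq_mul_left (Nat.mul_pos Nat.card_pos Nat.card_pos) h1
  have hcopidx : (Nat.card (commutator ↥M)).Coprime (commutator ↥M).index := by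
    rw [hidx, ← hcardKc]; exact hcopHK
  have key := (Cfsg.Agent.S1459.result (G := ↥M)).1 (commutator ↥M) (K.subgroupOf M)
    inferInstance hcopidx hcompl' le_rfl
  intro x hx
  have hxS : x ∈ S := hx.1
  have hxC : x ∈ Subgroup.centralizer (K : Set G) := hx.2
  have hxM : x ∈ M := hSM0 hxS
  have hxH : (⟨x, hxM⟩ : ↥M) ∈ commutator ↥M := by
    have h1 : x ∈ ⁅M, M⁆ := hSder0 hxS
    rw [← Subgroup.map_subtype_commutator] at h1
    obtain ⟨y, hy, hyx⟩ := h1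
    have hyeq : y = ⟨x, hxM⟩ := Subtype.ext hyx
    rw [← hyeq]; exact hy
  have hxCc : (⟨x, hxM⟩ : ↥M) ∈
      Subgroup.centralizer ((K.subgroupOf M : Subgroup ↥M) : Set ↥M) := by
    rw [Subgroup.mem_centralizer_iff]
    intro k hk
    have hk' : (k : G) ∈ K := Subgroup.mem_subgroupOf.mp hk
    apply Subtype.ext
    exact (Subgroup.mem_centralizer_iff.mp hxC) (k : G) hk'
  have h2 := key.2 ⟨hxH, hxCc⟩
  have h3 : x ∈ (⁅commutator ↥M, commutator ↥M⁆).map M.subtype := ⟨⟨x, hxM⟩, h2, rfl⟩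
  rw [Subgroup.map_commutator, Subgroup.map_subtype_commutator] at h3
  exact h3

end Cfsg.Agent.Lib.Helper2.BG
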